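import Cfsg.Agent.ThreeTransposition.SolvablePerp.FourBaseCert
import Cfsg.Agent.ThreeTransposition.SolvablePerp.FourCert
import Cfsg.Agent.ThreeTransposition.SolvablePerp.FiveCert
import Cfsg.Agent.ThreeTransposition.SolvablePerp.ModelData
import Cfsg.Agent.ThreeTransposition.UnitaryRadical.Standard
import Cfsg.Agent.PrimeGraph.FieldFour

/-!
Transvections in the special unitary groups of degree four and five over the field with four elements which
satisfy the relations of the configurations and generate.
-/

set_option autoImplicit false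
set_option maxRecDepth 100000
set_option linter.unusedSectionVars false

namespace Cfsg.Lib.ThreeTr.SolvablePerp.Model

open Cfsg Subgroup Cfsg.Lib.CosetTable Cfsg.Lib.Classical Cfsg.Lib.TTUnitary
open Cfsg.Lib.PrimeGraph (KQuad)

theorem hK : Fintype.card KQuad = 2 ^ 2 := by rw [KQuad.card_eq]; norm_num

/-- The unitary space. -/
noncomputable abbrev HS (n : ℕ) : HermSpace KQuad (Fin n → KQuad) := stdHerm n hK

theorem four (n : ℕ) : Four (HS n) := four_std KQuad.card_eq n hK

theorem h_eq (n : ℕ) (u v : Fin n → KQuad) : (HS n).h u v = ∑ i, u i * (v i * v i) := by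
  show ∑ i, u i * powConj hK (v i) = _
  simp_rw [powConj_apply, sq]

/-- The vector with the given code. -/
def vec (n code : ℕ) : Fin n → KQuad := fun i => KQuad.ofCode (code >>> (2 * (i : ℕ)))

/-- The list of coordinates with the given code. -/
def dec (n code : ℕ) : List KQuad := (List.range n).map fun i => KQuad.ofCode (code >>> (2 * i))

theorem ofFn_vec (n code : ℕ) : List.ofFn (vec n code) = dec n code :=
  List.ext_getElem (by simp [dec]) fun i _ _ => by simp [dec, vec]

/-- The form on lists. -/
def dot (x v : List KQuad) : KQuad := (List.zipWith (fun a b => a * (b * b)) x v).sum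

/-- A transvection on lists. -/
def act1 (v x : List KQuad) : List KQuad :=
  let c := dot x v
  List.zipWith (fun a b => a + c * b) x v

theorem dot_ofFn {n : ℕ} (x v : Fin n → KQuad) : dot (List.ofFn x) (List.ofFn v) = (HS n).h x v := by
  rw [h_eq, dot, ← List.sum_ofFn]
  congr 1
  exact List.ext_getElem (by simp) fun i _ _ => by simp

theorem act1_ofFn {n : ℕ} {v : Fin n → KQuad} (hv : (HS n).h v v = 0) (x : Fin n → KQuad) :
    List.ofFn ((tv (four n) v).1.1 x) = act1 (List.ofFn v) (List.ofFn x) := by
  rw [tv_apply (four n) hv, act1, dot_ofFn]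
  exact List.ext_getElem (by simp) fun i _ _ => by simp

/-- The transvections with the given centres. -/
noncomputable def mm (n : ℕ) (gens : List ℕ) (i : ℕ) : (HS n).SIsom := tv (four n) (vec n (gens.getD i 0))

/-- The action of a word on lists. -/
def act (n : ℕ) (gens : List ℕ) (w : List ℕ) (x : List KQuad) : List KQuad :=
  w.foldr (fun l y => act1 (dec n (gens.getD l 0)) y) x

/-- A unit vector as a list. -/
def unit (n i : ℕ) : List KQuad := (List.range n).map fun j => if j = i then 1 else 0

/-- The checks on the centres, the relators and the orbit. -/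
structure Data (n : ℕ) where
  gens : List ℕ
  orb : List (ℕ × ℕ × ℕ)
  idx : ℕ

variable {n : ℕ}

/-- All centres are isotropic. -/
def Data.gensOK (d : Data n) : Bool := d.gens.all fun g => decide (dot (dec n g) (dec n g) = 0)

/-- The relators hold on the basis. -/
def Data.relsOK (d : Data n) (R : List (List ℕ)) : Bool :=
  R.all fun w => (w.all fun l => decide (l < d.gens.length)) &&
    (List.range n).all fun i => decide (act n d.gens w (unit n i) = unit n i)

/-- Each point of the orbit is a centre or the image of an earlier point. -/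
def Data.orbOK (d : Data n) : Bool :=
  (List.range d.orb.length).all fun i =>
    let e := d.orb.getD i (0, 0, 0)
    decide (dot (dec n e.1) (dec n e.1) = 0) && if i = 0 then decide (e.1 = d.gens.getD 0 0)
    else decide (e.2.1 < i) && decide (e.2.2 < d.gens.length) &&
      decide (dec n e.1 = act1 (dec n (d.gens.getD e.2.2 0)) (dec n (d.orb.getD e.2.1 (0, 0, 0)).1))

/-- All isotropic vectors are multiples of points of the orbit. -/
def Data.idxOK (d : Data n) : Bool :=
  (List.range (4 ^ n)).all fun code =>
    !(decide (dot (dec n code) (dec n code) = 0)) || decide (code = 0) ||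
      let e := d.idx >>> (16 * code) % 2 ^ 16
      decide (e % 4 ≠ 0) && decide (e / 4 < d.orb.length) &&
        decide (dec n code = (dec n (d.orb.getD (e / 4) (0, 0, 0)).1).map fun a => KQuad.ofCode (e % 4) * a)

theorem Data.iso (d : Data n) (h : d.gensOK = true) {i : ℕ} (hi : i < d.gens.length) :
    (HS n).h (vec n (d.gens.getD i 0)) (vec n (d.gens.getD i 0)) = 0 := by
  have := List.all_eq_true.1 h (d.gens.getD i 0) (by rw [List.getD_eq_getElem _ _ hi]; exact List.getElem_mem hi)
  rw [← dot_ofFn, ofFn_vec]
  exact of_decide_eq_true this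

theorem Data.apply_wval (d : Data n) (h : d.gensOK = true) :
    ∀ (w : List ℕ), (∀ l ∈ w, l < d.gens.length) → ∀ x : Fin n → KQuad,
      List.ofFn ((wval (mm n d.gens) w).1.1 x) = act n d.gens w (List.ofFn x)
  | [], _, x => rfl
  | l :: w, hl, x => by
    have ih := d.apply_wval h w (fun a ha => hl a (List.mem_cons_of_mem l ha)) x
    rw [wval, List.map_cons, List.prod_cons, (HS n).smul_mul_apply, mm,
      act1_ofFn (d.iso h (hl l List.mem_cons_self)), ofFn_vec]
    rw [wval] at ih
    rw [ih]
    rfl

theorem Data.rels_hold (d : Data n) (h : d.gensOK = true) {R : List (List ℕ)} (hR : d.relsOK R = true) :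
    ∀ r ∈ R, wval (mm n d.gens) r = 1 := by
  intro r hr
  have h' := List.all_eq_true.1 hR r hr
  simp only [Bool.and_eq_true, List.all_eq_true, decide_eq_true_eq, List.mem_range] at h'
  have hb : ((wval (mm n d.gens) r).1.1 : (Fin n → KQuad) →ₗ[KQuad] Fin n → KQuad) = LinearMap.id := by
    refine (Pi.basisFun KQuad (Fin n)).ext fun i => ?_
    apply List.ofFn_injective
    rw [Pi.basisFun_apply]
    show List.ofFn ((wval (mm n d.gens) r).1.1 (Pi.single i 1)) = List.ofFn (Pi.single i (1 : KQuad))
    have hu : List.ofFn (Pi.single i (1 : KQuad) : Fin n → KQuad) = unit n i :=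
      List.ext_getElem (by simp [unit]) fun j _ _ => by simp [unit, Pi.single_apply, Fin.ext_iff]
    rw [d.apply_wval h r h'.1, hu]
    exact h'.2 i i.2
  exact (HS n).sisom_ext fun x => LinearMap.congr_fun hb x

theorem Data.tv_orb_mem (d : Data n) (h : d.gensOK = true) (ho : d.orbOK = true) (hpos : 0 < d.gens.length) :
    ∀ i < d.orb.length, (HS n).h (vec n (d.orb.getD i (0, 0, 0)).1) (vec n (d.orb.getD i (0, 0, 0)).1) = 0 ∧
      tv (four n) (vec n (d.orb.getD i (0, 0, 0)).1) ∈ closure (mm n d.gens '' Set.Iio d.gens.length) := by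
  intro i
  induction i using Nat.strong_induction_on with
  | _ i ih =>
    intro hi
    have h' := List.all_eq_true.1 ho i (List.mem_range.2 hi)
    simp only [Bool.and_eq_true, decide_eq_true_eq] at h'
    obtain ⟨hiso, h'⟩ := h'
    refine ⟨by rwa [← dot_ofFn, ofFn_vec], ?_⟩
    split_ifs at h' with h0
    · rw [decide_eq_true_eq] at h'
      rw [h']
      exact subset_closure ⟨0, hpos, rfl⟩
    · simp only [Bool.and_eq_true, decide_eq_true_eq] at h'
      obtain ⟨⟨hp, hl⟩, he⟩ := h'
      obtain ⟨hiso', hmem⟩ := ih _ hp (hp.trans hi)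
      have hvl := d.iso h hl
      have hv : vec n (d.orb.getD i (0, 0, 0)).1 = (tv (four n) (vec n (d.gens.getD (d.orb.getD i (0, 0, 0)).2.2 0))).1.1
          (vec n (d.orb.getD (d.orb.getD i (0, 0, 0)).2.1 (0, 0, 0)).1) := by
        apply List.ofFn_injective
        rw [act1_ofFn hvl, ofFn_vec, ofFn_vec, ofFn_vec]
        exact he
      rw [hv, ← tv_conj (four n) _ hiso']
      have hg : mm n d.gens (d.orb.getD i (0, 0, 0)).2.2 ∈ closure (mm n d.gens '' Set.Iio d.gens.length) :=
        subset_closure ⟨_, hl, rfl⟩
      exact mul_mem (mul_mem hg hmem) (inv_mem hg)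

theorem Data.tv_mem (d : Data n) (h : d.gensOK = true) (ho : d.orbOK = true) (hpos : 0 < d.gens.length)
    (hx : d.idxOK = true) {v : Fin n → KQuad} (hv0 : v ≠ 0) (hv : (HS n).h v v = 0) :
    tv (four n) v ∈ closure (mm n d.gens '' Set.Iio d.gens.length) := by
  set code := (finFunctionFinEquiv fun i => (v i).code : Fin (4 ^ n)) with hcode
  have hvec : vec n code = v := by
    funext i
    have := congrArg Fin.val (congrFun (finFunctionFinEquiv.symm_apply_apply fun i => (v i).code) i)
    rw [finFunctionFinEquiv_symm_apply_val] at this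
    rw [vec, Nat.shiftRight_eq_div_pow, pow_mul]
    show (⟨_⟩ : KQuad) = v i
    exact congrArg KQuad.mk (Fin.ext (by simpa [hcode] using this))
  have h' := List.all_eq_true.1 hx code.val (List.mem_range.2 code.2)
  simp only [Bool.or_eq_true, Bool.and_eq_true, Bool.not_eq_true', decide_eq_false_iff_not,
    decide_eq_true_eq] at h'
  rcases h' with (h' | h') | h'
  · exact absurd (by rw [← ofFn_vec, dot_ofFn, hvec]; exact hv) h'
  · exfalso
    apply hv0
    rw [← hvec, h']
    funext i
    simp [vec]
    rfl
  · obtain ⟨⟨hs, hi⟩, he⟩ := h'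
    obtain ⟨hiso, hmem⟩ := d.tv_orb_mem h ho hpos _ hi
    set e := d.idx >>> (16 * code.val) % 2 ^ 16
    have hsmul : v = KQuad.ofCode (e % 4) • vec n (d.orb.getD (e / 4) (0, 0, 0)).1 := by
      rw [← hvec]
      apply List.ofFn_injective
      rw [ofFn_vec, he, ← ofFn_vec]
      exact List.ext_getElem (by simp) fun j _ _ => by simp
    have hne : KQuad.ofCode (e % 4) ≠ 0 := fun e0 => hs (by
      have := congrArg (fun a : KQuad => a.code.val) e0
      have h0 : (0 : KQuad).code.val = 0 := rfl
      simpa [KQuad.ofCode, h0] using this)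
    rw [hsmul, tv_smul (four n) hiso hne]
    exact hmem

/-- The transvections generate. -/
theorem Data.generate (d : Data n) (h : d.gensOK = true) (ho : d.orbOK = true) (hpos : 0 < d.gens.length)
    (hx : d.idxOK = true) (hn : n = 4 ∨ n = 5) :
    closure (mm n d.gens '' Set.Iio d.gens.length) = ⊤ := by
  rw [eq_top_iff]
  intro g _
  have hU : (HS n).NondegOn ⊤ := fun z _ hz => (HS n).nondeg z fun w => hz w trivial
  have hS : Supp (HS n) ⊤ g := fun x hx' => by
    rw [(HS n).nondeg x fun w => (HS n).eq_zero_symm (hx' w trivial), map_zero]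
  have hg : g ∈ lg (four n) (⊤ : Submodule KQuad (Fin n → KQuad)) := by
    rcases hn with rfl | rfl
    · exact gen_four (four 4) hU (by rw [finrank_top, Module.finrank_fin_fun]) hS
    · exact gen_five (four 5) hU (by rw [finrank_top, Module.finrank_fin_fun]) hS
  refine (closure_le _).2 ?_ hg
  rintro _ ⟨v, -, hv0, hv, rfl⟩
  exact d.tv_mem h ho hpos hx hv0 hv

/-- Degree four. -/
def dataFour : Data 4 := ⟨ModelData.gensFour, ModelData.orbFour, ModelData.idxFour⟩

/-- Degree five. -/
def dataFive : Data 5 := ⟨ModelData.gensFive, ModelData.orbFive, ModelData.idxFive⟩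

theorem four_gens : dataFour.gensOK = true := by decide +kernel
theorem four_orb : dataFour.orbOK = true := by decide +kernel
theorem four_idx : dataFour.idxOK = true := by decide +kernel
theorem four_rels_base : dataFour.relsOK FourBaseCert.rels = true := by decide +kernel
theorem four_rels : dataFour.relsOK FourCert.rels = true := by decide +kernel
theorem five_gens : dataFive.gensOK = true := by decide +kernel
theorem five_orb : dataFive.orbOK = true := by decide +kernel
theorem five_idx : dataFive.idxOK = true := by decide +kernel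
theorem five_rels_base : dataFive.relsOK FourBaseCert.rels = true := by decide +kernel
theorem five_rels_four : dataFive.relsOK FourCert.rels = true := by decide +kernel
theorem five_rels : dataFive.relsOK FiveCert.rels = true := by decide +kernel

theorem card_four : Nat.card (HS 4).SIsom = 25920 := by
  have h := (HS 4).card_SIsom_mul
  rw [Module.finrank_fin_fun, stdHerm_q] at h
  norm_num [cardGUFormula, Finset.prod_range_succ, Nat.even_iff] at h
  omega

theorem card_five : Nat.card (HS 5).SIsom = 13685760 := by
  have h := (HS 5).card_SIsom_mul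
  rw [Module.finrank_fin_fun, stdHerm_q] at h
  norm_num [cardGUFormula, Finset.prod_range_succ, Nat.even_iff] at h
  omega

end Cfsg.Lib.ThreeTr.SolvablePerp.Model
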