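import Cfsg.Agent.ThreeTransposition.SolvablePerp.Config
import Cfsg.Agent.ThreeTransposition.SolvablePerp.Model
import Cfsg.Agent.Known.Balance.SUFacts

/-!
The groups with a solvable neighbourhood: the symmetric group of degree six and the unitary groups of degree
four and five over the field with four elements.
-/

set_option autoImplicit false
set_option linter.unusedSectionVars false
set_option linter.style.haveILetI false

namespace Cfsg.Lib.ThreeTr.SolvablePerp

open Cfsg Subgroup Cfsg.Lib.ThreeTr Cfsg.Lib.CosetTable Cfsg.Lib.Classical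
open Cfsg.Lib.PrimeGraph (KQuad)

universe u

variable {G : Type u} [Group G] {D : Set G}

theorem noncommutative [Finite G] (Q : ∃ c, Quad D c) : ∃ a b : G, a * b ≠ b * a := by
  obtain ⟨c, Q⟩ := Q
  obtain ⟨x, a, a₂, b, z, P⟩ := Q.exists_pre
  exact ⟨a, b, P.hab⟩

theorem pair_rels {M : Type*} [Group M] {R : List (List ℕ)} {im : ℕ → G} {mm : ℕ → M}
    (h₁ : ∀ r ∈ R, wval im r = 1) (h₂ : ∀ r ∈ R, wval mm r = 1) :
    ∀ r ∈ R, wval (fun i => (im i, mm i)) r = 1 := fun r hr => by
  rw [wval_prod, h₁ r hr, h₂ r hr]; rfl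

theorem pair_inv {M : Type*} [Group M] {n : ℕ} {im : ℕ → G} {mm : ℕ → M} (h₁ : ∀ i < n, im i * im i = 1)
    (h₂ : ∀ i < n, mm i * mm i = 1) {k : ℕ} (hk : k ≤ n) {i : ℕ} (hi : i < k) :
    (im ((List.range k).getD i 0), mm ((List.range k).getD i 0)) = (im i, mm i)⁻¹ := by
  rw [List.getD_eq_getElem _ _ (by simpa using hi), List.getElem_range]
  exact Prod.ext (inv_eq_of_mul_eq_one_right (h₁ i (by omega))).symm
    (inv_eq_of_mul_eq_one_right (h₂ i (by omega))).symm

/-- The bound in degree four. -/
theorem card_four_le {P : Type*} [Group P] {im : ℕ → P} (hinv : ∀ i < 6, (im i)⁻¹ = im i)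
    (hb : ∀ r ∈ FourBaseCert.rels, wval im r = 1) (h4 : ∀ r ∈ FourCert.rels, wval im r = 1) :
    Finite (closure (im '' Set.Iio 6)) ∧ Nat.card (closure (im '' Set.Iio 6)) ≤ 25920 := by
  obtain ⟨hf, hc⟩ := card_le (C := FourBaseCert.cert) im ⊥ FourBaseCert.valid
    { inv := fun l hl => by
        change l < 5 at hl
        rw [hinv l (by omega)]
        interval_cases l <;> rfl
      inv_lt := fun l hl => by
        change l < 5 at hl
        interval_cases l <;> decide
      rel := hb
      sub := fun r hr => absurd hr (List.not_mem_nil) }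
    FourBaseCert.rows (L := closure (im '' Set.Iio 5)) le_rfl
  have hn1 : FourBaseCert.cert.n = 192 := rfl
  rw [hn1, Subgroup.card_bot, mul_one] at hc
  haveI := hf
  obtain ⟨hf', hc'⟩ := card_le (C := FourCert.cert) im (closure (im '' Set.Iio 5)) FourCert.valid
    { inv := fun l hl => by
        change l < 6 at hl
        rw [hinv l hl]
        interval_cases l <;> rfl
      inv_lt := fun l hl => by
        change l < 6 at hl
        interval_cases l <;> decide
      rel := h4
      sub := fun r hr => by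
        simp only [FourCert.cert, FourCert.subs, List.mem_cons, List.not_mem_nil, or_false] at hr
        rcases hr with rfl | rfl | rfl | rfl | rfl <;>
          · simp only [wval, List.map_cons, List.map_nil, List.prod_cons, List.prod_nil, mul_one]
            exact subset_closure (Set.mem_image_of_mem im (by simp)) }
    FourCert.rows (L := closure (im '' Set.Iio 6)) le_rfl
  have hn2 : FourCert.cert.n = 135 := rfl
  rw [hn2] at hc'
  exact ⟨hf', hc'.trans (by omega)⟩

/-- The bound in degree five. -/
theorem card_five_le {P : Type*} [Group P] {im : ℕ → P} (hinv : ∀ i < 7, (im i)⁻¹ = im i)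
    (hb : ∀ r ∈ FourBaseCert.rels, wval im r = 1) (h4 : ∀ r ∈ FourCert.rels, wval im r = 1)
    (h5 : ∀ r ∈ FiveCert.rels, wval im r = 1) :
    Finite (closure (im '' Set.Iio 7)) ∧ Nat.card (closure (im '' Set.Iio 7)) ≤ 13685760 := by
  obtain ⟨hf, hc⟩ := card_four_le (fun i hi => hinv i (by omega)) hb h4
  haveI := hf
  obtain ⟨hf', hc'⟩ := card_le (C := FiveCert.cert) im (closure (im '' Set.Iio 6)) FiveCert.valid
    { inv := fun l hl => by
        change l < 7 at hl
        rw [hinv l hl]
        interval_cases l <;> rfl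
      inv_lt := fun l hl => by
        change l < 7 at hl
        interval_cases l <;> decide
      rel := h5
      sub := fun r hr => by
        simp only [FiveCert.cert, FiveCert.subs, List.mem_cons, List.not_mem_nil, or_false] at hr
        rcases hr with rfl | rfl | rfl | rfl | rfl | rfl <;>
          · simp only [wval, List.map_cons, List.map_nil, List.prod_cons, List.prod_nil, mul_one]
            exact subset_closure (Set.mem_image_of_mem im (by simp)) }
    FiveCert.rows (L := closure (im '' Set.Iio 7)) le_rfl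
  have hn : FiveCert.cert.n = 528 := rfl
  rw [hn] at hc'
  exact ⟨hf', hc'.trans (by omega)⟩

/-- A centreless noncommutative image of a special unitary group over four elements is the projective one. -/
theorem psu_equiv {n : ℕ} (hn : 4 ≤ n) (φ : (Model.HS n).SIsom →* G) (hφ : Function.Surjective φ)
    (hZ : center G = ⊥) (hnc : ∃ a b : G, a * b ≠ b * a) : Nonempty (G ≃* Cfsg.PSU n KQuad 2) := by
  set ψ : Cfsg.SU n KQuad 2 →* G := φ.comp (suEquiv n Model.hK).symm.toMonoidHom with hψ
  have hψs : Function.Surjective ψ := hφ.comp (suEquiv n Model.hK).symm.surjective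
  haveI := Cfsg.Lib.Balance.su_quot_simple (k := KQuad) (q := 2) Model.hK (n := n) (by omega) (by omega)
  set Z := center (Cfsg.SU n KQuad 2) with hZdef
  have hZker : Z ≤ ψ.ker := by
    intro z hz
    rw [MonoidHom.mem_ker, ← mem_bot, ← hZ, mem_center_iff]
    intro g
    obtain ⟨s, rfl⟩ := hψs g
    rw [← map_mul, ← map_mul, mem_center_iff.1 hz s]
  have hn' : (ψ.ker.map (QuotientGroup.mk' Z)).Normal := Subgroup.Normal.map inferInstance _
    (QuotientGroup.mk'_surjective _)
  have hker : ψ.ker = Z := by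
    have hcm : (ψ.ker.map (QuotientGroup.mk' Z)).comap (QuotientGroup.mk' Z) = ψ.ker := by
      rw [comap_map_eq, QuotientGroup.ker_mk', sup_eq_left.2 hZker]
    rcases IsSimpleGroup.eq_bot_or_eq_top_of_normal _ hn' with h | h
    · rw [h] at hcm
      rw [← hcm, MonoidHom.comap_bot, QuotientGroup.ker_mk']
    · rw [h, comap_top] at hcm
      obtain ⟨a, b, hab⟩ := hnc
      obtain ⟨s, rfl⟩ := hψs a
      have : ψ s = 1 := MonoidHom.mem_ker.1 (hcm ▸ mem_top s)
      rw [this, one_mul, mul_one] at hab
      exact absurd rfl hab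
  exact ⟨((QuotientGroup.quotientMulEquivOfEq hker.symm).trans
    (QuotientGroup.quotientKerEquivOfSurjective ψ hψs)).symm⟩

theorem Quad.six_equiv [Finite G] (Q : Quad D 2) : Nonempty (G ≃* Equiv.Perm (Fin 6)) := by
  obtain ⟨im, himD, hrels, htop⟩ := Q.six
  set mm : ℕ → Equiv.Perm (Fin 6) := fun i =>
    [Equiv.swap 0 1, Equiv.swap 1 2, Equiv.swap 2 3, Equiv.swap 3 4, Equiv.swap 4 5].getD i 1 with hmm
  have hm2 : ∀ i < 5, mm i * mm i = 1 := fun i hi => by interval_cases i <;> simp [hmm]
  have hmrels : ∀ r ∈ SixCert.rels, wval mm r = 1 := by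
    simp only [SixCert.rels, List.forall_mem_cons, List.forall_mem_nil, wval, hmm]
    decide
  have hmtop : closure (mm '' Set.Iio 5) = ⊤ := by
    rw [eq_top_iff]
    intro σ _
    have h := Equiv.Perm.mclosure_swap_castSucc_succ 5
    have hσ : σ ∈ Submonoid.closure (Set.range fun i : Fin 5 => Equiv.swap i.castSucc i.succ) := by
      rw [h]; trivial
    refine (Submonoid.closure_le (S := (closure (mm '' Set.Iio 5)).toSubmonoid)).2 ?_ hσ
    rintro _ ⟨i, rfl⟩
    refine subset_closure ⟨i, i.2, ?_⟩
    fin_cases i <;> rfl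
  obtain ⟨hf, hc⟩ := card_le (C := SixCert.cert) (fun i => (im i, mm i)) ⊥ SixCert.valid
    { inv := fun l hl => by
        change l < 5 at hl
        exact pair_inv (fun i hi => sq_eq_one Q.rich.cls.1 (himD i hi)) hm2 le_rfl hl
      inv_lt := fun l hl => by
        change l < 5 at hl
        interval_cases l <;> decide
      rel := pair_rels hrels hmrels
      sub := fun r hr => absurd hr List.not_mem_nil }
    SixCert.rows (L := closure ((fun i => (im i, mm i)) '' Set.Iio 5)) le_rfl
  have hn : SixCert.cert.n = 720 := rfl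
  rw [hn, Subgroup.card_bot, mul_one] at hc
  haveI := hf
  obtain ⟨φ, hφ⟩ := exists_hom_of_card_le htop hmtop (hc.trans (le_of_eq (by
    rw [Nat.card_eq_fintype_card, Fintype.card_perm, Fintype.card_fin]; rfl)))
  have hker : φ.ker = ⊥ := by
    by_contra hne
    haveI := (nontrivial_iff_ne_bot φ.ker).2 hne
    have hle := Equiv.Perm.alternatingGroup_le_of_normal (α := Fin 6) (by simp) (N := φ.ker) inferInstance
    obtain ⟨a, b, hab⟩ := noncommutative ⟨2, Q⟩
    obtain ⟨s, rfl⟩ := hφ a
    obtain ⟨t, rfl⟩ := hφ b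
    refine hab ?_
    have hmem : s * t * (t * s)⁻¹ ∈ alternatingGroup (Fin 6) := by
      rw [Equiv.Perm.mem_alternatingGroup]
      simp [mul_comm]
    have := MonoidHom.mem_ker.1 (hle hmem)
    rw [map_mul, map_mul, map_inv, map_mul, mul_inv_eq_one] at this
    exact this
  exact ⟨(MulEquiv.ofBijective φ ⟨(MonoidHom.ker_eq_bot_iff φ).1 hker, hφ⟩).symm⟩

theorem Quad.unitary [Finite G] (Q : Quad D 4) :
    Nonempty (G ≃* Cfsg.PSU 4 KQuad 2) ∨ Nonempty (G ≃* Cfsg.PSU 5 KQuad 2) := by
  have hnc := noncommutative ⟨4, Q⟩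
  rcases Q.four_five with ⟨im, himD, hb, h4, htop⟩ | ⟨im, himD, hb, h4, h5, htop⟩
  · left
    have hgl : Model.dataFour.gens.length = 6 := rfl
    set mm := Model.mm 4 Model.dataFour.gens with hmm
    have hm2 : ∀ i < 6, mm i * mm i = 1 := fun i hi =>
      Cfsg.Lib.TTUnitary.tv_sq (Model.four 4) (Model.dataFour.iso Model.four_gens (hgl ▸ hi))
    obtain ⟨hf, hc⟩ := card_four_le (im := fun i => (im i, mm i))
      (fun i hi => Prod.ext (inv_eq Q.rich.cls.1 (himD i hi)) (inv_eq_of_mul_eq_one_right (hm2 i hi)))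
      (pair_rels hb (Model.dataFour.rels_hold Model.four_gens Model.four_rels_base))
      (pair_rels h4 (Model.dataFour.rels_hold Model.four_gens Model.four_rels))
    haveI := hf
    haveI : Finite (Model.HS 4).SIsom := Nat.finite_of_card_ne_zero (by rw [Model.card_four]; norm_num)
    have hgen : closure (mm '' Set.Iio 6) = ⊤ :=
      hgl ▸ Model.dataFour.generate Model.four_gens Model.four_orb (hgl ▸ by norm_num) Model.four_idx (Or.inl rfl)
    obtain ⟨φ, hφ⟩ := exists_hom_of_card_le htop hgen (hc.trans Model.card_four.ge)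
    exact psu_equiv le_rfl φ hφ Q.center hnc
  · right
    have hgl : Model.dataFive.gens.length = 7 := rfl
    set mm := Model.mm 5 Model.dataFive.gens with hmm
    have hm2 : ∀ i < 7, mm i * mm i = 1 := fun i hi =>
      Cfsg.Lib.TTUnitary.tv_sq (Model.four 5) (Model.dataFive.iso Model.five_gens (hgl ▸ hi))
    obtain ⟨hf, hc⟩ := card_five_le (im := fun i => (im i, mm i))
      (fun i hi => Prod.ext (inv_eq Q.rich.cls.1 (himD i hi)) (inv_eq_of_mul_eq_one_right (hm2 i hi)))
      (pair_rels hb (Model.dataFive.rels_hold Model.five_gens Model.five_rels_base))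
      (pair_rels h4 (Model.dataFive.rels_hold Model.five_gens Model.five_rels_four))
      (pair_rels h5 (Model.dataFive.rels_hold Model.five_gens Model.five_rels))
    haveI := hf
    haveI : Finite (Model.HS 5).SIsom := Nat.finite_of_card_ne_zero (by rw [Model.card_five]; norm_num)
    have hgen : closure (mm '' Set.Iio 7) = ⊤ :=
      hgl ▸ Model.dataFive.generate Model.five_gens Model.five_orb (hgl ▸ by norm_num) Model.five_idx (Or.inr rfl)
    obtain ⟨φ, hφ⟩ := exists_hom_of_card_le htop hgen (hc.trans Model.card_five.ge)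
    exact psu_equiv (by norm_num) φ hφ Q.center hnc

/-- Fischer's groups with a solvable neighbourhood. -/
theorem main [Finite G] (hsol : ∀ N : Subgroup G, N.Normal → Group.IsSolvable N → N = ⊥)
    (hperf : ⁅commutator G, commutator G⁆ = commutator G) (hD : IsThreeTranspositionClass D) {x : G} (hx : x ∈ D)
    (hs : Group.IsSolvable (closure (perp D x))) :
    Nonempty (G ≃* Equiv.Perm (Fin 5)) ∨ Nonempty (G ≃* Equiv.Perm (Fin 6)) ∨
      ∃ (F : Type) (_ : Field F) (_ : Fintype F), Fintype.card F = 4 ∧
        (Nonempty (G ≃* Cfsg.PSU 4 F 2) ∨ Nonempty (G ≃* Cfsg.PSU 5 F 2)) := by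
  obtain ⟨-, -, hR⟩ := rich_of_fischer hsol hperf hD
  by_cases hO : oddCore (closure (perp D x)) ≤ center (closure (perp D x))
  swap
  · exact Or.inl (CoreThree.fischer_core hsol hperf hD hx hO)
  have hZ : center G = ⊥ := hsol _ inferInstance (Group.isSolvable_of_comm fun a b => Subtype.ext (mem_center_iff.1 b.2 a))
  obtain ⟨c, Q⟩ := exists_quad hR hZ hx hs hO
  rcases Q.two_or_four with rfl | rfl
  · exact Or.inr (Or.inl Q.six_equiv)
  · exact Or.inr (Or.inr ⟨KQuad, inferInstance, inferInstance, KQuad.card_eq, Q.unitary⟩)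

end Cfsg.Lib.ThreeTr.SolvablePerp
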