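import Cfsg.Agent.ThreeTransposition.SolvablePerp.Quad

/-!
The number of lines at a member is a power of three, and a variance count over the members which commute with
neither of two noncommuting members bounds it.
-/

set_option linter.unusedSectionVars false
set_option linter.style.haveILetI false

namespace Cfsg.Lib.ThreeTr.SolvablePerp

open Cfsg Subgroup Cfsg.Lib.ThreeTr

universe u

variable {G : Type u} [Group G] {D : Set G} {c : ℕ}

/-- A pairwise noncommuting set of 3-transpositions closed under conjugation has three-power size. -/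
theorem ncard_three_pow_of_noncommuting [Finite G] (hD : IsThreeTranspositionSet D) {T : Set G} (hT : T ⊆ D)
    {t₀ : G} (ht₀ : t₀ ∈ T) (hnc : ∀ u ∈ T, ∀ v ∈ T, Commute u v → u = v)
    (hcl : ∀ u ∈ T, ∀ v ∈ T, u * v * u⁻¹ ∈ T) : ∃ n : ℕ, T.ncard = 3 ^ n := by
  haveI : Fact (Nat.Prime 3) := ⟨Nat.prime_three⟩
  set H := closure T with hH
  have hpres : ∀ g ∈ H, ∀ t, g * t * g⁻¹ ∈ T ↔ t ∈ T := by
    intro g hg
    induction hg using closure_induction with
    | mem u hu =>
      refine fun t => ⟨fun h => ?_, hcl u hu t⟩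
      have := hcl u hu _ h
      rwa [inv_eq hD (hT hu), invol_conj_conj (sq_eq_one hD (hT hu))] at this
    | one => intro t; simp
    | mul g k _ _ hg hk => intro t; rw [show g * k * t * (g * k)⁻¹ = g * (k * t * k⁻¹) * g⁻¹ by group, hg, hk]
    | inv g _ hg => intro t; rw [← hg, show g * (g⁻¹ * t * g⁻¹⁻¹) * g⁻¹ = t by group]
  have hcls : IsThreeTranspositionClass ({h : H | (h : G) ∈ T} : Set H) := by
    refine ⟨⟨fun h hh => ?_, fun h hh k hk => ?_⟩, ⟨⟨t₀, subset_closure ht₀⟩, ht₀, ?_⟩, closure_closure_coe_preimage⟩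
    · rw [← Subgroup.orderOf_coe]; exact hD.1 _ (hT hh)
    · rcases hD.2 _ (hT hh) _ (hT hk) with h2 | h3
      · exact Or.inl (Subtype.ext h2)
      · exact Or.inr (Subtype.ext h3)
    · ext h
      rw [mem_conjugatesOf', isConj_iff]
      constructor
      · intro hh
        by_cases hc : Commute t₀ (h : G)
        · exact ⟨1, Subtype.ext (by simp [hnc t₀ ht₀ _ hh hc])⟩
        · exact ⟨⟨t₀ * h, mul_mem (subset_closure ht₀) h.2⟩, Subtype.ext (mul_conj_eq hD (hT ht₀) (hT hh) hc)⟩
      · rintro ⟨g, rfl⟩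
        exact (hpres g g.2 t₀).2 ht₀
  have hP := (isPGroup_productSubgroup hcls fun a ha b hb hab =>
    Subtype.ext (hnc _ ha _ hb (hab.map H.subtype))).map H.subtype
  set Q := (productSubgroup ({h : H | (h : G) ∈ T} : Set H)).map H.subtype with hQ
  set Q' : Subgroup (ConjAct G) := Q.map ConjAct.toConjAct.toMonoidHom with hQ'
  have hQH : Q ≤ H := map_subtype_le _
  have horb : MulAction.orbit Q' t₀ = T := by
    ext t
    constructor
    · rintro ⟨⟨_, g, hg, rfl⟩, rfl⟩
      exact (hpres g (hQH hg) t₀).2 ht₀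
    · intro ht
      by_cases hc : Commute t₀ t
      · exact hnc _ ht₀ _ ht hc ▸ MulAction.mem_orbit_self t₀
      exact ⟨⟨_, t₀ * t, ⟨⟨t₀, subset_closure ht₀⟩ * ⟨t, subset_closure ht⟩,
        mul_mem_productSubgroup (D := ({h : H | (h : G) ∈ T} : Set H)) ht₀ ht, rfl⟩, rfl⟩,
        mul_conj_eq hD (hT ht₀) (hT ht) hc⟩
  haveI : Finite (MulAction.orbit Q' t₀) := Set.toFinite _
  obtain ⟨n, hn⟩ := (hP.map ConjAct.toConjAct.toMonoidHom).card_orbit (α := G) t₀
  exact ⟨n, by rw [← horb, ← Nat.card_coe_set_eq]; exact hn⟩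

theorem Quad.commute_eq [Finite G] (Q : Quad D c) {x z t t' : G} (hx : x ∈ D) (hz : z ∈ D) (h : ¬ Commute x z)
    (ht : t ∈ perp D x ∩ perp D z) (ht' : t' ∈ perp D x ∩ perp D z) (hc : Commute t t') : t = t' := by
  by_contra hne
  have hL := Q.isLine hx ht.1
  exact h (hL.comm x mem_line_left z
    (hL.two z hz t mem_line_right t' (Or.inr (Or.inr ⟨ht'.1, ht'.1.1, Ne.symm hne, hc⟩)) hne ht.2.2.2 ht'.2.2.2))

/-- Each neighbour of `x` commutes with exactly one common neighbour of a noncommuting pair `x`, `z`. -/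
theorem Quad.neighbour_unique [Finite G] (Q : Quad D c) {x z a : G} (hx : x ∈ D) (hz : z ∈ D) (h : ¬ Commute x z)
    (ha : a ∈ perp D x) : ∃! t, t ∈ perp D x ∩ perp D z ∧ Commute a t := by
  have hL := Q.isLine hx ha
  have hzL : z ∉ line D x a := fun h' => h (hL.comm x mem_line_left z h')
  obtain ⟨t, ⟨htL, hzt⟩, huniq⟩ := Q.existsUnique hL hz hzL
  have htx : t ≠ x := fun e => h (e ▸ hzt).symm
  refine ⟨t, ⟨⟨hL.mem_perp mem_line_left htL htx, hL.sub htL, fun e => hzL (e ▸ htL), hzt⟩,
    hL.comm a mem_line_right t htL⟩, fun t' ⟨⟨ht1, ht2⟩, hat⟩ => ?_⟩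
  exact huniq t' ⟨hL.two t' ht1.1 x mem_line_left a mem_line_right ha.2.1.symm ht1.2.2.symm hat.symm, ht2.2.2⟩

theorem Quad.ncard_perp [Finite G] (Q : Quad D c) {x z : G} (hx : x ∈ D) (hz : z ∈ D) (h : ¬ Commute x z) :
    (perp D x).ncard = c * (perp D x ∩ perp D z).ncard := by
  classical
  haveI := Fintype.ofFinite G
  have key := Finset.card_mul_eq_card_mul (fun a t => Commute a t) (s := (perp D x).toFinset)
    (t := (perp D x ∩ perp D z).toFinset) (m := 1) (n := c) (fun a ha => ?_) fun t ht => ?_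
  · rw [Set.ncard_eq_toFinset_card' (perp D x), Set.ncard_eq_toFinset_card' (perp D x ∩ perp D z)]
    rw [mul_one] at key
    rw [key, mul_comm]
  · obtain ⟨t, ht, huniq⟩ := Q.neighbour_unique hx hz h (Set.mem_toFinset.1 ha)
    refine Finset.card_eq_one.2 ⟨t, Finset.ext fun t' => ?_⟩
    simp only [Finset.mem_bipartiteAbove, Set.mem_toFinset, Finset.mem_singleton]
    exact ⟨fun h' => huniq t' h', fun e => e ▸ ht⟩
  · have ht := Set.mem_toFinset.1 ht
    have hset : ({a : G | a ∈ perp D x ∧ Commute a t}) = insert t (perp D x ∩ perp D t) := by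
      ext a
      refine ⟨fun ha => ?_, ?_⟩
      · by_cases e : a = t
        · exact Or.inl e
        · exact Or.inr ⟨ha.1, ha.1.1, e, ha.2.symm⟩
      · rintro (rfl | ⟨ha, ha'⟩)
        exacts [⟨ht.1, Commute.refl _⟩, ⟨ha, ha'.2.2.symm⟩]
    have hn : ({a : G | a ∈ perp D x ∧ Commute a t}).ncard = c := by
      rw [hset, Set.ncard_insert_of_notMem (fun e => e.2.2.1 rfl) (Set.toFinite _), Q.common x hx t ht.1]
      have := Q.two_le; omega
    rw [← hn, Set.ncard_eq_toFinset_card']
    exact congrArg Finset.card (Finset.ext fun a => by simp)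

/-- The parameters of the geometry. -/
theorem Quad.parameters [Finite G] (Q : Quad D c) {x z : G} (hx : x ∈ D) (hz : z ∈ D) (hxz : ¬ Commute x z) :
    c = 2 ∧ (perp D x ∩ perp D z).ncard = 3 ∨
      c = 4 ∧ ((perp D x ∩ perp D z).ncard = 3 ∨ (perp D x ∩ perp D z).ncard = 9) := by
  classical
  haveI := Fintype.ofFinite G
  have hD := Q.rich.cls
  set m := (perp D x ∩ perp D z).ncard with hm
  have hk : ∀ u ∈ D, (perp D u).ncard = c * m := fun u hu => by
    rw [ncard_perp_eq hD hu hx, Q.ncard_perp hx hz hxz]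
  have hμ : ∀ u ∈ D, ∀ v ∈ D, ¬ Commute u v → (perp D u ∩ perp D v).ncard = m := fun u hu v hv h =>
    Nat.eq_of_mul_eq_mul_left (by have := Q.two_le; omega) ((Q.ncard_perp hu hv h).symm.trans (hk u hu))
  obtain ⟨t₀, ht₀⟩ := Q.conj_edge hx hz hxz
  obtain ⟨i, hi⟩ : ∃ i, m = 3 ^ i := by
    refine ncard_three_pow_of_noncommuting hD.1 (fun t ht => ht.1.1) ht₀
      (fun u hu v hv => Q.commute_eq hx hz hxz hu hv) fun u hu v hv => ⟨?_, ?_⟩
    · have := (CoreThree.mem_perp_conj hD u).2 hv.1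
      rwa [CoreThree.conj_fix hu.1.2.2.symm] at this
    · have := (CoreThree.mem_perp_conj hD u).2 hv.2
      rwa [CoreThree.conj_fix hu.2.2.2.symm] at this
  have hm2 : 2 ≤ m := by
    have hL := Q.isLine hx ht₀.1
    obtain ⟨n, hn, hnL⟩ := Q.exists_outside hL mem_line_left
    obtain ⟨t, ⟨ht, hnt⟩, -⟩ := Q.neighbour_unique hx hz hxz hn
    have hne : t ≠ t₀ := fun e => hnL (hL.two n hn.1 x mem_line_left t₀ mem_line_right ht₀.1.2.1.symm
      hn.2.2.symm (e ▸ hnt))
    exact (Set.one_lt_ncard (Set.toFinite _)).2 ⟨t, ht, t₀, ht₀, hne⟩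
  set T := (perp D x ∩ perp D z).toFinset with hT
  have hTm : T.card = m := by rw [hm, Set.ncard_eq_toFinset_card']
  set W := ({y : G | y ∈ D ∧ ¬ Commute x y}).toFinset with hW
  set Y := W.filter (fun y => ¬ Commute z y) with hY
  -- the members not commuting with `x`
  have hWc : W.card * m = c * m * (c * m - c) := by
    have hS : (perp D x).toFinset.card = c * m := by rw [← hk x hx, Set.ncard_eq_toFinset_card']
    rw [← hS]
    refine (Finset.card_mul_eq_card_mul (fun a y => Commute a y) (s := (perp D x).toFinset) (t := W)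
      (m := (perp D x).toFinset.card - c) (n := m) (fun a ha => ?_) fun y hy => ?_).symm
    · have ha := Set.mem_toFinset.1 ha
      have hset : ({y : G | y ∈ D ∧ ¬ Commute x y ∧ Commute a y}) = perp D a \ insert x (perp D x ∩ perp D a) := by
        ext y
        constructor
        · rintro ⟨hy, hn, hc⟩
          refine ⟨⟨hy, fun e => hn (e ▸ ha.2.2), hc⟩, ?_⟩
          rintro (rfl | h)
          exacts [hn (Commute.refl _), hn h.1.2.2]
        · rintro ⟨hy, hn⟩
          refine ⟨hy.1, fun hc => hn ?_, hy.2.2⟩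
          by_cases e : y = x
          · exact Or.inl e
          · exact Or.inr ⟨⟨hy.1, e, hc⟩, hy⟩
      have hn : ({y : G | y ∈ D ∧ ¬ Commute x y ∧ Commute a y}).ncard = c * m - c := by
        rw [hset, Set.ncard_sdiff (Set.insert_subset (perp_symm hx ha) Set.inter_subset_right),
          Set.ncard_insert_of_notMem (fun e => e.1.2.1 rfl) (Set.toFinite _), Q.common x hx a ha, hk a ha.1]
        have := Q.two_le; omega
      rw [hS, ← hn, Set.ncard_eq_toFinset_card']
      exact congrArg Finset.card (Finset.ext fun y => by simp [hW]; tauto)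
    · have hy := Set.mem_toFinset.1 hy
      rw [← hμ x hx y hy.1 hy.2, Set.ncard_eq_toFinset_card']
      refine congrArg Finset.card (Finset.ext fun a => ?_)
      simp only [Finset.mem_bipartiteBelow, Set.mem_toFinset]
      exact ⟨fun h => ⟨h.1, h.1.1, fun e => hy.2 (e ▸ h.1.2.2), h.2.symm⟩, fun h => ⟨h.1, h.2.2.2.symm⟩⟩
  -- those commuting with neither
  have hYc : Y.card + (1 + (c * m - m)) = W.card := by
    have hset : ({y : G | y ∈ D ∧ ¬ Commute x y ∧ Commute z y}) = insert z (perp D z \ (perp D x ∩ perp D z)) := by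
      ext y
      constructor
      · rintro ⟨hy, hn, hc⟩
        by_cases e : y = z
        · exact Or.inl e
        · exact Or.inr ⟨⟨hy, e, hc⟩, fun h => hn h.1.2.2⟩
      · rintro (rfl | ⟨hy, hn⟩)
        · exact ⟨hz, hxz, Commute.refl _⟩
        · exact ⟨hy.1, fun hc => hn ⟨⟨hy.1, fun e => hxz (e ▸ hy.2.2).symm, hc⟩, hy⟩, hy.2.2⟩
    have hn : ({y : G | y ∈ D ∧ ¬ Commute x y ∧ Commute z y}).ncard = 1 + (c * m - m) := by
      rw [hset, Set.ncard_insert_of_notMem (fun e => e.1.2.1 rfl) (Set.toFinite _),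
        Set.ncard_sdiff Set.inter_subset_right, hk z hz, ← hm]
      omega
    rw [← hn, Set.ncard_eq_toFinset_card', ← Finset.card_filter_add_card_filter_not (s := W) (fun y => ¬ Commute z y)]
    exact congrArg (Y.card + ·) (congrArg Finset.card (Finset.ext fun y => by simp [hW]; tauto))
  have hT' : ∀ t ∈ T, t ∈ perp D x ∩ perp D z := fun t ht => Set.mem_toFinset.1 ht
  -- the members of `Y` at one common neighbour
  have hone : ∀ t ∈ T, (Y.bipartiteBelow (fun y t => Commute y t) t).card = c * m - 2 * c := by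
    intro t ht
    obtain ⟨htx, htz⟩ := hT' t ht
    have hset : ({y : G | y ∈ D ∧ ¬ Commute x y ∧ ¬ Commute z y ∧ Commute y t}) =
        perp D t \ (insert x (insert z ((perp D x ∩ perp D t) ∪ (perp D z ∩ perp D t)))) := by
      ext y
      constructor
      · rintro ⟨hy, hnx, hnz, hc⟩
        refine ⟨⟨hy, fun e => hnx (e ▸ htx.2.2), hc.symm⟩, ?_⟩
        rintro (rfl | rfl | h | h)
        exacts [hnx (Commute.refl _), hnz (Commute.refl _), hnx h.1.2.2, hnz h.1.2.2]
      · rintro ⟨hy, hn⟩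
        refine ⟨hy.1, fun hc => hn ?_, fun hc => hn ?_, hy.2.2.symm⟩
        · by_cases e : y = x
          · exact Or.inl e
          · exact Or.inr (Or.inr (Or.inl ⟨⟨hy.1, e, hc⟩, hy⟩))
        · by_cases e : y = z
          · exact Or.inr (Or.inl e)
          · exact Or.inr (Or.inr (Or.inr ⟨⟨hy.1, e, hc⟩, hy⟩))
    have hdis : Disjoint (perp D x ∩ perp D t) (perp D z ∩ perp D t) := Set.disjoint_left.2 fun y hy hy' =>
      hy.2.2.1 (Q.commute_eq hx hz hxz ⟨hy.1, hy'.1⟩ ⟨htx, htz⟩ hy.2.2.2.symm)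
    have hzP : z ∉ (perp D x ∩ perp D t) ∪ (perp D z ∩ perp D t) := by
      rintro (h | h)
      exacts [hxz h.1.2.2, h.1.2.1 rfl]
    have hxP : x ∉ insert z ((perp D x ∩ perp D t) ∪ (perp D z ∩ perp D t)) := by
      rintro (rfl | h | h)
      exacts [hxz (Commute.refl _), h.1.2.1 rfl, hxz h.1.2.2.symm]
    have hn : ({y : G | y ∈ D ∧ ¬ Commute x y ∧ ¬ Commute z y ∧ Commute y t}).ncard = c * m - 2 * c := by
      rw [hset, Set.ncard_sdiff (Set.insert_subset (perp_symm hx htx) (Set.insert_subset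
          (perp_symm hz htz) (Set.union_subset Set.inter_subset_right Set.inter_subset_right))),
        Set.ncard_insert_of_notMem hxP (Set.toFinite _), Set.ncard_insert_of_notMem hzP (Set.toFinite _),
        Set.ncard_union_eq hdis (Set.toFinite _) (Set.toFinite _), Q.common x hx t htx, Q.common z hz t htz,
        hk t htx.1]
      have := Q.two_le; omega
    rw [← hn, Set.ncard_eq_toFinset_card']
    exact congrArg Finset.card (Finset.ext fun y => by simp [hY, hW]; tauto)
  -- and at two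
  have htwo : ∀ p ∈ T.offDiag, (Y.bipartiteBelow (fun y (p : G × G) => Commute y p.1 ∧ Commute y p.2) p).card
      = m - 2 := by
    rintro ⟨t, t'⟩ hp
    obtain ⟨ht, ht', hne⟩ := Finset.mem_offDiag.1 hp
    obtain ⟨htx, htz⟩ := hT' t ht
    obtain ⟨ht'x, ht'z⟩ := hT' t' ht'
    have hnc : ¬ Commute t t' := fun h => hne (Q.commute_eq hx hz hxz ⟨htx, htz⟩ ⟨ht'x, ht'z⟩ h)
    have hset : ({y : G | y ∈ D ∧ ¬ Commute x y ∧ ¬ Commute z y ∧ Commute y t ∧ Commute y t'}) =
        (perp D t ∩ perp D t') \ {x, z} := by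
      ext y
      constructor
      · rintro ⟨hy, hnx, hnz, hc, hc'⟩
        refine ⟨⟨⟨hy, fun e => hnx (e ▸ htx.2.2), hc.symm⟩, ⟨hy, fun e => hnx (e ▸ ht'x.2.2), hc'.symm⟩⟩, ?_⟩
        rintro (rfl | rfl)
        exacts [hnx (Commute.refl _), hnz (Commute.refl _)]
      · rintro ⟨⟨hy, hy'⟩, hn⟩
        have hno : ∀ w, w ∈ D → t ∈ perp D w → t' ∈ perp D w → y ≠ w → ¬ Commute w y := by
          intro w hw htw ht'w hyw hc
          have hL := Q.isLine hw htw
          exact hnc (hL.comm t mem_line_right t' (hL.two t' ht'w.1 w mem_line_left y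
            (Or.inr (Or.inr ⟨⟨hy.1, hyw, hc⟩, hy⟩)) (Ne.symm hyw) ht'w.2.2.symm hy'.2.2))
        exact ⟨hy.1, hno x hx htx ht'x fun e => hn (Or.inl e), hno z hz htz ht'z fun e => hn (Or.inr e),
          hy.2.2.symm, hy'.2.2.symm⟩
    have hn : ({y : G | y ∈ D ∧ ¬ Commute x y ∧ ¬ Commute z y ∧ Commute y t ∧ Commute y t'}).ncard = m - 2 := by
      rw [hset, Set.ncard_sdiff (s := {x, z}) (t := perp D t ∩ perp D t') (Set.insert_subset
        ⟨perp_symm hx htx, perp_symm hx ht'x⟩
        (Set.singleton_subset_iff.2 ⟨perp_symm hz htz, perp_symm hz ht'z⟩)) (Set.toFinite _), hμ t htx.1 t' ht'x.1 hnc,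
        Set.ncard_pair (show x ≠ z from fun e => hxz (e ▸ Commute.refl x))]
    rw [← hn, Set.ncard_eq_toFinset_card']
    exact congrArg Finset.card (Finset.ext fun y => by simp [hY, hW]; tauto)
  set n : G → ℕ := fun y => (T.bipartiteAbove (fun y t => Commute y t) y).card with hn
  have hsum : ∑ y ∈ Y, n y = m * (c * m - 2 * c) := by
    rw [hn, Finset.sum_card_bipartiteAbove_eq_sum_card_bipartiteBelow, Finset.sum_congr rfl hone,
      Finset.sum_const, hTm, smul_eq_mul]
  have hsq : ∑ y ∈ Y, n y ^ 2 = (m * m - m) * (m - 2) + m * (c * m - 2 * c) := by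
    rw [← hsum]
    have h2 : ∑ y ∈ Y, (T.offDiag.bipartiteAbove (fun y (p : G × G) => Commute y p.1 ∧ Commute y p.2) y).card
        = (m * m - m) * (m - 2) := by
      rw [Finset.sum_card_bipartiteAbove_eq_sum_card_bipartiteBelow, Finset.sum_congr rfl htwo, Finset.sum_const,
        Finset.offDiag_card, hTm, smul_eq_mul]
    rw [← h2, ← Finset.sum_add_distrib]
    refine Finset.sum_congr rfl fun y _ => ?_
    rw [show T.offDiag.bipartiteAbove (fun y (p : G × G) => Commute y p.1 ∧ Commute y p.2) y =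
        (T.bipartiteAbove (fun y t => Commute y t) y).offDiag from Finset.ext fun p => by
          simp only [Finset.mem_bipartiteAbove, Finset.mem_offDiag]; tauto,
      Finset.offDiag_card, hn]
    dsimp only
    rw [sq, Nat.sub_add_cancel (Nat.le_mul_self _)]
  have hcs := sq_sum_le_card_mul_sum_sq (s := Y) (f := n)
  rw [hsum, hsq] at hcs
  have hm3 : 3 ≤ m := by
    rcases Nat.eq_zero_or_pos i with rfl | h0
    · rw [pow_zero] at hi; omega
    · exact hi ▸ le_self_pow₀ (by norm_num) (by omega)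
  obtain ⟨q, hq⟩ : ∃ q, m = q + 3 := ⟨m - 3, by omega⟩
  have e1 : c * m - 2 * c = c * (q + 1) := by
    rw [hq, show c * (q + 3) = c * (q + 1) + 2 * c by ring, Nat.add_sub_cancel]
  have e2 : m * m - m = m * (q + 2) := by
    rw [hq, show (q + 3) * (q + 3) = (q + 3) * (q + 2) + (q + 3) by ring, Nat.add_sub_cancel]
  rw [e1, e2, show m - 2 = q + 1 by omega] at hcs
  have hWval : W.card = c * c * (q + 2) := by
    refine Nat.eq_of_mul_eq_mul_right (show 0 < m by omega) ?_
    rw [hWc, hq, show c * (q + 3) = c * (q + 2) + c by ring, Nat.add_sub_cancel]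
    ring
  have hpow : ∀ B, m ≤ B → B < 27 → m = 3 ∨ m = 9 := by
    intro B hB hB'
    have hi3 : i < 3 := (Nat.pow_lt_pow_iff_right (by norm_num : 1 < 3)).1 (by rw [← hi]; norm_num; omega)
    interval_cases i <;> simp [hi] at hm3 ⊢
  rcases Q.two_or_four with rfl | rfl
  · have hYv : Y.card = 3 * q + 4 := by omega
    rw [hYv, Nat.cast_id] at hcs
    have hq2 : q ≤ 2 := by
      by_contra! hlt
      have hpos : 0 < m * (q + 1) := by positivity
      have h1 : m * (q + 1) * (4 * (m * (q + 1))) ≤ m * (q + 1) * ((3 * q + 4) * (q + 4)) := by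
        calc _ = (m * (2 * (q + 1))) ^ 2 := by ring
          _ ≤ _ := hcs
          _ = _ := by ring
      have h4 := Nat.le_of_mul_le_mul_left h1 hpos
      rw [hq] at h4
      nlinarith
    exact Or.inl ⟨rfl, (hpow 5 (by omega) (by norm_num)).resolve_right (by omega)⟩
  · have hYv : Y.card = 13 * q + 22 := by omega
    rw [hYv, Nat.cast_id] at hcs
    have hq2 : q ≤ 14 := by
      by_contra! hlt
      have hpos : 0 < m * (q + 1) := by positivity
      have h1 : m * (q + 1) * (16 * (m * (q + 1))) ≤ m * (q + 1) * ((13 * q + 22) * (q + 6)) := by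
        calc _ = (m * (4 * (q + 1))) ^ 2 := by ring
          _ ≤ _ := hcs
          _ = _ := by ring
      have h4 := Nat.le_of_mul_le_mul_left h1 hpos
      rw [hq] at h4
      nlinarith
    exact Or.inr ⟨rfl, hpow 17 (by omega) (by norm_num)⟩

end Cfsg.Lib.ThreeTr.SolvablePerp
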