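import Cfsg.Agent.ThreeTransposition.SolvablePerp.Generate
import Cfsg.Agent.ThreeTransposition.SolvablePerp.SixCert
import Cfsg.Agent.ThreeTransposition.SolvablePerp.FourBaseCert
import Cfsg.Agent.ThreeTransposition.SolvablePerp.FourCert
import Cfsg.Agent.ThreeTransposition.SolvablePerp.FiveCert

/-!
The relations of the configurations, and the homomorphism from a group of the order which the tables allow.
-/

set_option linter.unusedSectionVars false
set_option linter.style.haveILetI false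

namespace Cfsg.Lib.ThreeTr.SolvablePerp

open Cfsg Subgroup Cfsg.Lib.ThreeTr Cfsg.Lib.CosetTable

universe u

variable {G : Type u} [Group G] {D : Set G}

theorem rel_two {a b : G} (ha : a * a = 1) (hb : b * b = 1) (h : Commute a b) : a * b * a * b = 1 := by
  have := (commute_iff_sq ha hb).1 h
  rwa [sq, ← mul_assoc] at this

theorem rel_three (hE : IsThreeTranspositionSet D) {a b : G} (ha : a ∈ D) (hb : b ∈ D) (h : ¬ Commute a b) :
    a * b * a * b * a * b = 1 := by
  have := cube_of_not_commute hE ha hb h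
  simpa only [pow_succ, pow_zero, one_mul, ← mul_assoc] using this

/-- The case of lines with three members. -/
theorem Quad.six [Finite G] (Q : Quad D 2) : ∃ im : ℕ → G, (∀ i < 5, im i ∈ D) ∧
    (∀ r ∈ SixCert.rels, wval im r = 1) ∧ closure (im '' Set.Iio 5) = ⊤ := by
  obtain ⟨x, a, a₂, b, z, P⟩ := Q.exists_pre
  have hE := Q.rich.cls.1
  have ax := P.ha.1
  have a2D := P.ha₂.1.1
  refine ⟨fun i => [a, b, a₂, z, x].getD i 1, fun i hi => ?_, ?_, ?_⟩
  · interval_cases i
    exacts [ax, P.hb.1, a2D, P.zD, P.hx]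
  · have hs := fun {t : G} (ht : t ∈ D) => sq_eq_one hE ht
    have r01 := rel_three hE ax P.hb.1 P.hab
    have r02 := rel_two (hs ax) (hs a2D) P.ha₂.2.2.2
    have r03 := rel_two (hs ax) (hs P.zD) P.hz.1.2.2
    have r04 := rel_two (hs ax) (hs P.hx) P.ha.2.2.symm
    have r12 := rel_three hE P.hb.1 a2D fun h => P.not_commute_b Q P.ha₂.1 P.ha₂.2.2.2.symm h.symm
    have r13 := rel_two (hs P.hb.1) (hs P.zD) P.hz.2.2.2
    have r14 := rel_two (hs P.hb.1) (hs P.hx) P.hb.2.2.symm
    have r23 := rel_three hE a2D P.zD (P.not_commute_z Q P.ha₂)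
    have r24 := rel_two (hs a2D) (hs P.hx) P.ha₂.1.2.2.symm
    have r34 := rel_three hE P.zD P.hx fun h => P.hxz h.symm
    simp [SixCert.rels, wval, ← mul_assoc, r01, r02, r03, r04, r12, r13, r14, r23, r24, r34]
  · have hsub : ∀ {t : G}, t ∈ [a, b, a₂, z, x] →
        t ∈ closure ((fun i => [a, b, a₂, z, x].getD i 1) '' Set.Iio 5) := fun {t} ht => by
      obtain ⟨i, hi, rfl⟩ := List.getElem_of_mem ht
      exact subset_closure ⟨i, by simpa using hi, List.getD_eq_getElem _ _ hi⟩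
    have hline : line D x a ⊆ closure ((fun i => [a, b, a₂, z, x].getD i 1) '' Set.Iio 5) := by
      have h1 : perp D x ∩ perp D a = {a₂} := by
        obtain ⟨w, hw⟩ := Set.ncard_eq_one.1 (show (perp D x ∩ perp D a).ncard = 1 by rw [Q.common x P.hx a P.ha])
        have := P.ha₂
        rw [hw, Set.mem_singleton_iff] at this
        rw [hw, this]
      rw [line, h1]
      rintro t (rfl | rfl | rfl) <;> exact hsub (by simp)
    refine P.eq_top Q hline (hsub (by simp)) (hsub (by simp)) (Or.inl ?_)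
    rcases Q.parameters P.hx P.zD P.hxz with ⟨-, h⟩ | ⟨h, -⟩
    exacts [h, absurd h (by norm_num)]

/-- The facts used for lines with five members. -/
theorem Pre.five_facts [Finite G] (Q : Quad D 4) {x a a₂ b z a₃ : G} (P : Pre D x a a₂ b z)
    (h₃ : a₃ ∈ perp D x ∩ perp D a) (hne : a₃ ≠ a₂) :
    Commute a₂ a₃ ∧ x * a * a₂ * a₃ ∈ perp D x ∩ perp D a ∧ Commute (x * a * a₂ * a₃) a₂ ∧
      Commute (x * a * a₂ * a₃) a₃ ∧ line D x a = {x, a, a₂, a₃, x * a * a₂ * a₃} := by
  classical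
  have hL := Q.isLine P.hx P.ha
  have m2 : a₂ ∈ line D x a := Or.inr (Or.inr P.ha₂)
  have m3 : a₃ ∈ line D x a := Or.inr (Or.inr h₃)
  have hsub : ({x, a, a₂, a₃} : Set G) ⊆ line D x a := by
    rintro t (rfl | rfl | rfl | rfl)
    exacts [mem_line_left, mem_line_right, m2, m3]
  obtain ⟨r, hr, hr'⟩ : ∃ r ∈ line D x a, r ∉ ({x, a, a₂, a₃} : Set G) := by
    refine Set.exists_mem_notMem_of_ncard_lt_ncard (lt_of_le_of_lt ?_ (show 4 < (line D x a).ncard by rw [hL.card]; norm_num))
      (Set.toFinite _)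
    refine (Set.ncard_insert_le _ _).trans (Nat.succ_le_succ ((Set.ncard_insert_le _ _).trans
      (Nat.succ_le_succ ((Set.ncard_insert_le _ _).trans (by rw [Set.ncard_singleton])))))
  simp only [Set.mem_insert_iff, Set.mem_singleton_iff, not_or] at hr'
  have hd : [x, a, a₂, a₃, r].Nodup := by
    simp [Ne.symm P.ha.2.1, Ne.symm P.ha₂.1.2.1, Ne.symm h₃.1.2.1, Ne.symm P.ha₂.2.2.1, Ne.symm h₃.2.2.1, Ne.symm hne,
      Ne.symm hr'.1, Ne.symm hr'.2.1, Ne.symm hr'.2.2.1, Ne.symm hr'.2.2.2]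
  have hprod : x * a * a₂ * a₃ = r := by
    have := Q.prod_five hL mem_line_left mem_line_right m2 m3 hr hd
    rw [mul_eq_one_iff_eq_inv, inv_eq Q.rich.cls.1 (hL.sub hr)] at this
    exact this
  rw [hprod]
  refine ⟨hL.comm _ m2 _ m3, ⟨hL.mem_perp mem_line_left hr hr'.1, hL.mem_perp mem_line_right hr hr'.2.1⟩,
    hL.comm _ hr _ m2, hL.comm _ hr _ m3, ?_⟩
  refine (Set.eq_of_subset_of_ncard_le ?_ ?_ (Set.toFinite _)).symm
  · rintro t (rfl | rfl | rfl | rfl | rfl)
    exacts [mem_line_left, mem_line_right, m2, m3, hr]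
  · rw [hL.card]
    have h : (([x, a, a₂, a₃, r].toFinset : Finset G) : Set G) = ({x, a, a₂, a₃, r} : Set G) := by simp
    rw [← h, Set.ncard_coe_finset, List.toFinset_card_of_nodup hd]
    rfl

/-- The relations of six transpositions, for lines with five members. -/
theorem Pre.four_rels [Finite G] (Q : Quad D 4) {x a a₂ b z a₃ : G} (P : Pre D x a a₂ b z)
    (h₃ : a₃ ∈ perp D x ∩ perp D a) (hne : a₃ ≠ a₂) {im : ℕ → G}
    (h0 : im 0 = x) (h1 : im 1 = a) (h2 : im 2 = a₂) (h3 : im 3 = a₃) (h4 : im 4 = b) (h5 : im 5 = z) :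
    (∀ r ∈ FourBaseCert.rels, wval im r = 1) ∧ ∀ r ∈ FourCert.rels, wval im r = 1 := by
  obtain ⟨h23, h4m, h42, h43, -⟩ := P.five_facts Q h₃ hne
  have hE := Q.rich.cls.1
  have hs := fun {t : G} (ht : t ∈ D) => sq_eq_one hE ht
  have xD := P.hx
  have aD := P.ha.1
  have a2D := P.ha₂.1.1
  have a3D := h₃.1.1
  have bD := P.hb.1
  have zD := P.zD
  set w := x * a * a₂ * a₃ with hw
  have wD : w ∈ D := h4m.1.1
  have r01 := rel_two (hs xD) (hs aD) P.ha.2.2
  have r02 := rel_two (hs xD) (hs a2D) P.ha₂.1.2.2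
  have r03 := rel_two (hs xD) (hs a3D) h₃.1.2.2
  have r04 := rel_two (hs xD) (hs bD) P.hb.2.2
  have r05 := rel_three hE xD zD P.hxz
  have r12 := rel_two (hs aD) (hs a2D) P.ha₂.2.2.2
  have r13 := rel_two (hs aD) (hs a3D) h₃.2.2.2
  have r14 := rel_three hE aD bD P.hab
  have r15 := rel_two (hs aD) (hs zD) P.hz.1.2.2
  have r23 := rel_two (hs a2D) (hs a3D) h23
  have r24 := rel_three hE a2D bD (P.not_commute_b Q P.ha₂.1 P.ha₂.2.2.2.symm)
  have r25 := rel_three hE a2D zD (P.not_commute_z Q P.ha₂)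
  have r34 := rel_three hE a3D bD (P.not_commute_b Q h₃.1 h₃.2.2.2.symm)
  have r35 := rel_three hE a3D zD (P.not_commute_z Q h₃)
  have r45 := rel_two (hs bD) (hs zD) P.hz.2.2.2
  have p0 := rel_two (hs xD) (hs wD) h4m.1.2.2
  have p1 := rel_two (hs aD) (hs wD) h4m.2.2.2
  have p2 := rel_two (hs a2D) (hs wD) h42.symm
  have p3 := rel_two (hs a3D) (hs wD) h43.symm
  have p4 := rel_three hE bD wD fun h => P.not_commute_b Q h4m.1 h4m.2.2.2.symm h.symm
  have p5 := rel_three hE zD wD fun h => P.not_commute_z Q h4m h.symm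
  simp only [hw, ← mul_assoc] at p0 p1 p2 p3 p4 p5
  simp only [mul_assoc _ x x, hs xD, one_mul, mul_one] at p0
  constructor
  · simp [FourBaseCert.rels, wval, h0, h1, h2, h3, h4, ← mul_assoc, r01, r02, r03, r04, r12, r13, r14, r23, r24,
      r34, p0, p1, p2, p3, p4, hs xD]
  · simp [FourCert.rels, wval, h0, h1, h2, h3, h4, h5, ← mul_assoc, r01, r02, r03, r04, r05, r12, r13, r14, r15,
      r23, r24, r25, r34, r35, r45, p0, p1, p2, p3, p4, p5, hs xD]

/-- Lines with five members: three or nine lines at a member. -/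
theorem Quad.four_five [Finite G] (Q : Quad D 4) :
    (∃ im : ℕ → G, (∀ i < 6, im i ∈ D) ∧ (∀ r ∈ FourBaseCert.rels, wval im r = 1) ∧
      (∀ r ∈ FourCert.rels, wval im r = 1) ∧ closure (im '' Set.Iio 6) = ⊤) ∨
    ∃ im : ℕ → G, (∀ i < 7, im i ∈ D) ∧ (∀ r ∈ FourBaseCert.rels, wval im r = 1) ∧
      (∀ r ∈ FourCert.rels, wval im r = 1) ∧ (∀ r ∈ FiveCert.rels, wval im r = 1) ∧
      closure (im '' Set.Iio 7) = ⊤ := by
  classical
  obtain ⟨x, a, a₂, b, z, P⟩ := Q.exists_pre
  have hD := Q.rich.cls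
  have hE := hD.1
  have xD := P.hx
  have aD := P.ha.1
  have a2D := P.ha₂.1.1
  have bD := P.hb.1
  have hpar : (perp D x ∩ perp D z).ncard = 3 ∨ (perp D x ∩ perp D z).ncard = 9 := by
    rcases Q.parameters P.hx P.zD P.hxz with ⟨h, -⟩ | ⟨-, h⟩
    exacts [absurd h (by norm_num), h]
  rcases hpar with hm | hm
  · left
    obtain ⟨a₃, h₃, hne⟩ := Set.exists_ne_of_one_lt_ncard (s := perp D x ∩ perp D a)
      (by rw [Q.common x P.hx a P.ha]; norm_num) a₂
    refine ⟨fun i => [x, a, a₂, a₃, b, z].getD i 1, fun i hi => ?_, (P.four_rels Q h₃ hne rfl rfl rfl rfl rfl rfl).1,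
      (P.four_rels Q h₃ hne rfl rfl rfl rfl rfl rfl).2, ?_⟩
    · interval_cases i
      exacts [xD, aD, a2D, h₃.1.1, bD, P.zD]
    · set K := closure ((fun i => [x, a, a₂, a₃, b, z].getD i 1) '' Set.Iio 6) with hK
      have hsub : ∀ {t : G}, t ∈ [x, a, a₂, a₃, b, z] → t ∈ K := fun {t} ht => by
        obtain ⟨i, hi, rfl⟩ := List.getElem_of_mem ht
        exact subset_closure ⟨i, by simpa using hi, List.getD_eq_getElem _ _ hi⟩
      refine P.eq_top Q ?_ (hsub (by simp)) (hsub (by simp)) (Or.inl hm)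
      rw [(P.five_facts Q h₃ hne).2.2.2.2]
      rintro t (rfl | rfl | rfl | rfl | rfl)
      rotate_right
      · exact mul_mem (mul_mem (mul_mem (hsub (by simp)) (hsub (by simp))) (hsub (by simp))) (hsub (by simp))
      all_goals exact hsub (by simp)
  right
  -- a seventh transposition
  set T := perp D x ∩ perp D z with hT
  have hCK : ∀ t ∈ T, ∀ t' ∈ T, Commute t t' → t = t' := fun t ht t' ht' =>
    Q.commute_eq P.hx P.zD P.hxz ht ht'
  have hcb : a * b * a ∈ T := by
    constructor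
    · have := (CoreThree.mem_perp_conj hD a).2 P.hb
      rwa [CoreThree.conj_fix P.ha.2.2.symm, inv_eq hE aD] at this
    · have := (CoreThree.mem_perp_conj hD a).2 P.bmem.2
      rwa [CoreThree.conj_fix P.hz.1.2.2, inv_eq hE aD] at this
  obtain ⟨e, he, he'⟩ : ∃ e ∈ T, e ∉ ({a, b, a * b * a} : Set G) := by
    refine Set.exists_mem_notMem_of_ncard_lt_ncard (lt_of_le_of_lt ?_ (show 3 < T.ncard by rw [hT, hm]; norm_num))
      (Set.toFinite _)
    refine (Set.ncard_insert_le _ _).trans (Nat.succ_le_succ ((Set.ncard_insert_le _ _).trans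
      (by rw [Set.ncard_singleton])))
  simp only [Set.mem_insert_iff, Set.mem_singleton_iff, not_or] at he'
  have eD := he.1.1
  have hea : ¬ Commute e a := fun h => he'.1 (hCK e he a P.amem h)
  have heb : ¬ Commute e b := fun h => he'.2.1 (hCK e he b P.bmem h)
  have hec : ¬ Commute e (a * b * a) := fun h => he'.2.2 (hCK e he _ hcb h)
  -- members not commuting with `e`
  have hea' : ∀ u ∈ perp D x, Commute u a → ¬ Commute e u := fun u hu hua h => by
    by_cases e0 : u = a
    · exact hea (e0 ▸ h)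
    have hL := Q.isLine P.hx hu
    exact hea (hL.comm e (hL.two e eD x mem_line_left u mem_line_right hu.2.1.symm he.1.2.2.symm h) a
      (Or.inr (Or.inr ⟨P.ha, P.ha.1, Ne.symm e0, hua⟩)))
  have hec' : ∀ v ∈ perp D x, Commute v (a * b * a) → ¬ Commute e v := fun v hv hvc h => by
    by_cases e0 : v = a * b * a
    · exact hec (e0 ▸ h)
    have hL := Q.isLine P.hx hv
    exact hec (hL.comm e (hL.two e eD x mem_line_left v mem_line_right hv.2.1.symm he.1.2.2.symm h) _
      (Or.inr (Or.inr ⟨hcb.1, hcb.1.1, Ne.symm e0, hvc⟩)))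
  have hna₂b := P.not_commute_b Q P.ha₂.1 P.ha₂.2.2.2.symm
  set b' := (a * a₂) * b * (a * a₂)⁻¹ with hb'
  have b'D : b' ∈ D := conj_mem hD _ bD
  have hb'x : b' ∈ perp D x := by
    have := (CoreThree.mem_perp_conj hD (a * a₂)).2 P.hb
    rwa [CoreThree.conj_fix (P.ha.2.2.symm.mul_left P.ha₂.1.2.2.symm)] at this
  have hbb' : Commute b b' := commute_pair_conj hE aD a2D bD P.ha₂.2.2.2 P.hab hna₂b
  set τ := b * b' with hτ
  have hτ2 : τ * τ = 1 := by
    rw [hτ, ← sq]; exact (commute_iff_sq (sq_eq_one hE bD) (sq_eq_one hE b'D)).1 hbb'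
  have heb' : ¬ Commute e b' := fun h => heb (by
    by_cases e0 : b' = b
    · exact e0 ▸ h
    have hL := Q.isLine P.hx hb'x
    exact hL.comm e (hL.two e eD x mem_line_left b' mem_line_right hb'x.2.1.symm he.1.2.2.symm h) b
      (Or.inr (Or.inr ⟨P.hb, bD, Ne.symm e0, hbb'.symm⟩)))
  -- the class of `e`
  set C : G → Set G := fun t => {u | u ∈ perp D x ∧ Commute u t} with hC
  have hCcard : ∀ t ∈ perp D x, (C t \ {t}).ncard = 3 := by
    intro t ht
    have hset : C t \ {t} = perp D x ∩ perp D t := by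
      ext u
      exact ⟨fun hu => ⟨hu.1.1, hu.1.1.1, hu.2, hu.1.2.symm⟩, fun hu => ⟨⟨hu.1, hu.2.2.2.symm⟩, hu.2.2.1⟩⟩
    rw [hset, Q.common x P.hx t ht]
  set f : G → G := fun u => (a * u) * e * (a * u)⁻¹ with hf
  have himg : f '' (perp D x ∩ perp D a) ⊆ C e \ {e} := by
    rintro _ ⟨u, hu, rfl⟩
    have hnu : ¬ Commute u e := fun h => hea' u hu.1 hu.2.2.2.symm h.symm
    refine ⟨⟨?_, (commute_pair_conj hE aD hu.1.1 eD hu.2.2.2 (fun h => hea h.symm) hnu).symm⟩, fun h => ?_⟩
    · have := (CoreThree.mem_perp_conj hD (a * u)).2 he.1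
      rwa [CoreThree.conj_fix (P.ha.2.2.symm.mul_left hu.1.2.2.symm)] at this
    · exact hea ((commute_pair_iff hE aD hu.1.1 eD hu.2.2.1.symm hu.2.2.2).1
        (mul_inv_eq_iff_eq_mul.1 (show f u = e from h)).symm).1
  have hinj : Set.InjOn f (perp D x ∩ perp D a) := by
    intro u hu v hv huv
    by_contra hne
    have hcuv : Commute u v := Q.clique x P.hx a P.ha u hu v hv
    have h1 : (u * v) * e * (u * v)⁻¹ = e := by
      have h := congrArg (fun s => u * (a * s * a) * u) huv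
      simp only [hf, mul_inv_rev, inv_eq hE aD, inv_eq hE hu.1.1, inv_eq hE hv.1.1] at h
      simp only [mul_inv_rev, inv_eq hE hu.1.1, inv_eq hE hv.1.1]
      simp only [← mul_assoc] at h ⊢
      simp only [mul_assoc _ a a, sq_eq_one hE aD, mul_one, mul_assoc _ u u, sq_eq_one hE hu.1.1, one_mul] at h
      exact h.symm
    exact hea' u hu.1 hu.2.2.2.symm
      ((commute_pair_iff hE hu.1.1 hv.1.1 eD hne hcuv).1 (mul_inv_eq_iff_eq_mul.1 h1).symm).1
  have himg' : f '' (perp D x ∩ perp D a) = C e \ {e} := Set.eq_of_subset_of_ncard_le himg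
    (by rw [Set.InjOn.ncard_image hinj, hCcard e he.1, Q.common x P.hx a P.ha]) (Set.toFinite _)
  have hτe : τ * e * τ⁻¹ ∈ C e \ {e} := by
    refine ⟨⟨?_, (commute_pair_conj hE bD b'D eD hbb' (fun h => heb h.symm) (fun h => heb' h.symm)).symm⟩, fun h => ?_⟩
    · have := (CoreThree.mem_perp_conj hD τ).2 he.1
      rwa [CoreThree.conj_fix (P.hb.2.2.symm.mul_left hb'x.2.2.symm)] at this
    · have hne0 : b ≠ b' := fun e0 => P.hab ((commute_pair_iff hE aD a2D bD P.ha₂.2.2.1.symm P.ha₂.2.2.2).1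
        (mul_inv_eq_iff_eq_mul.1 e0.symm).symm).1.symm
      exact heb ((commute_pair_iff hE bD b'D eD hne0 hbb').1
        (mul_inv_eq_iff_eq_mul.1 (show τ * e * τ⁻¹ = e from h)).symm).1
  rw [← himg'] at hτe
  obtain ⟨a₃, h₃, hfa⟩ := hτe
  have hfa : (a * a₃) * e * (a * a₃)⁻¹ = τ * e * τ⁻¹ := hfa
  have hτinv : τ⁻¹ = τ := inv_eq_of_mul_eq_one_right hτ2
  have hne : a₃ ≠ a₂ := by
    intro h
    subst h
    set d₁ := b * a * b
    set d₂ := b * a₃ * b
    have hsplit : τ * (a * a₃) = d₁ * d₂ := by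
      rw [hτ, hb']
      calc b * (a * a₃ * b * (a * a₃)⁻¹) * (a * a₃) = b * a * a₃ * b := by group
        _ = b * a * (b * b) * a₃ * b := by rw [sq_eq_one hE bD, mul_one]
        _ = _ := by simp only [d₁, d₂, mul_assoc]
    have hc : Commute e (τ * (a * a₃)) := by
      refine (mul_inv_eq_iff_eq_mul.1 ?_).symm
      calc τ * (a * a₃) * e * (τ * (a * a₃))⁻¹ = τ * ((a * a₃) * e * (a * a₃)⁻¹) * τ⁻¹ := by group
        _ = (τ * τ) * e * (τ * τ)⁻¹ := by rw [hfa]; group
        _ = e := by rw [hτ2]; group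
    rw [hsplit] at hc
    have hd1 : d₁ ∈ D := conj_invol_mem hD bD aD
    have hd2 : d₂ ∈ D := conj_invol_mem hD bD a2D
    have hd12 : Commute d₁ d₂ := by
      have := (conj_commute_iff b a a₃).2 P.ha₂.2.2.2
      rwa [inv_eq hE bD] at this
    have hne12 : d₁ ≠ d₂ := fun h => P.ha₂.2.2.1 (mul_left_cancel (mul_right_cancel h)).symm
    have hce := ((commute_pair_iff hE hd1 hd2 eD hne12 hd12).1 hc).1
    rw [show d₁ = a * b * a from braid hE bD aD fun h => P.hab h.symm] at hce
    exact hec hce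
  obtain ⟨h23, h4m, h42, h43, hline⟩ := P.five_facts Q h₃ hne
  set im : ℕ → G := fun i => [x, a, a₂, a₃, b, z, e].getD i 1 with him
  have hfour := P.four_rels Q h₃ hne (im := im) rfl rfl rfl rfl rfl rfl
  refine ⟨im, fun i hi => ?_, hfour.1, hfour.2, ?_, ?_⟩
  · interval_cases i
    exacts [xD, aD, a2D, h₃.1.1, bD, P.zD, eD]
  · have hs := fun {t : G} (ht : t ∈ D) => sq_eq_one hE ht
    have a3D := h₃.1.1
    have zD := P.zD
    set w := x * a * a₂ * a₃ with hw
    have wD : w ∈ D := h4m.1.1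
    have r01 := rel_two (hs xD) (hs aD) P.ha.2.2
    have r02 := rel_two (hs xD) (hs a2D) P.ha₂.1.2.2
    have r03 := rel_two (hs xD) (hs a3D) h₃.1.2.2
    have r04 := rel_two (hs xD) (hs bD) P.hb.2.2
    have r05 := rel_three hE xD zD P.hxz
    have r06 := rel_two (hs xD) (hs eD) he.1.2.2
    have r12 := rel_two (hs aD) (hs a2D) P.ha₂.2.2.2
    have r13 := rel_two (hs aD) (hs a3D) h₃.2.2.2
    have r14 := rel_three hE aD bD P.hab
    have r15 := rel_two (hs aD) (hs zD) P.hz.1.2.2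
    have r16 := rel_three hE aD eD fun h => hea h.symm
    have r23 := rel_two (hs a2D) (hs a3D) h23
    have r24 := rel_three hE a2D bD hna₂b
    have r25 := rel_three hE a2D zD (P.not_commute_z Q P.ha₂)
    have r26 := rel_three hE a2D eD fun h => hea' a₂ P.ha₂.1 P.ha₂.2.2.2.symm h.symm
    have r34 := rel_three hE a3D bD (P.not_commute_b Q h₃.1 h₃.2.2.2.symm)
    have r35 := rel_three hE a3D zD (P.not_commute_z Q h₃)
    have r36 := rel_three hE a3D eD fun h => hea' a₃ h₃.1 h₃.2.2.2.symm h.symm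
    have r45 := rel_two (hs bD) (hs zD) P.hz.2.2.2
    have r46 := rel_three hE bD eD fun h => heb h.symm
    have r56 := rel_two (hs zD) (hs eD) he.2.2.2
    have p0 := rel_two (hs xD) (hs wD) h4m.1.2.2
    have p1 := rel_two (hs aD) (hs wD) h4m.2.2.2
    have p2 := rel_two (hs a2D) (hs wD) h42.symm
    have p3 := rel_two (hs a3D) (hs wD) h43.symm
    have p4 := rel_three hE bD wD fun h => P.not_commute_b Q h4m.1 h4m.2.2.2.symm h.symm
    have p5 := rel_three hE zD wD fun h => P.not_commute_z Q h4m h.symm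
    have p6 := rel_three hE eD wD (hea' w h4m.1 h4m.2.2.2.symm)
    simp only [hw, ← mul_assoc] at p0 p1 p2 p3 p4 p5 p6
    simp only [mul_assoc _ x x, hs xD, one_mul, mul_one] at p0
    have hq : ∀ u ∈ perp D x, Commute u a → e * (u * b * u) * e * (u * b * u) * e * (u * b * u) = 1 := by
      intro u hu hua
      have hnub := P.not_commute_b Q hu hua
      refine rel_three hE eD (conj_invol_mem hD hu.1 bD) (hec' _ ?_ ?_)
      · have := (CoreThree.mem_perp_conj hD u).2 P.hb
        rwa [CoreThree.conj_fix hu.2.2.symm, inv_eq hE hu.1] at this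
      · rw [braid hE hu.1 bD hnub, braid hE aD bD P.hab]
        have := (conj_commute_iff b u a).2 hua
        rwa [inv_eq hE bD] at this
    have q1 := hq a P.ha (Commute.refl a)
    have q2 := hq a₂ P.ha₂.1 P.ha₂.2.2.2.symm
    have q3 := hq a₃ h₃.1 h₃.2.2.2.symm
    have q5 : b * a * a₂ * b * a₂ * a * a * a₃ * e * a₃ * a * a * a₂ * b * a₂ * a * b * e = 1 := by
      have h : (τ * (a * a₃)) * e * (τ * (a * a₃))⁻¹ = e := by
        rw [show τ * (a * a₃) * e * (τ * (a * a₃))⁻¹ = τ * ((a * a₃) * e * (a * a₃)⁻¹) * τ⁻¹ by group, hfa,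
          show τ * (τ * e * τ⁻¹) * τ⁻¹ = (τ * τ) * e * (τ * τ)⁻¹ by group, hτ2]
        group
      have h' : (τ * (a * a₃)) * e * (τ * (a * a₃))⁻¹ * e = 1 := by rw [h]; exact hs eD
      simp only [hτ, hb', mul_inv_rev, inv_inv, inv_eq hE aD, inv_eq hE a2D, inv_eq hE a3D, inv_eq hE bD,
        ← mul_assoc] at h'
      exact h'
    simp only [← mul_assoc] at q1 q2 q3
    simp [FiveCert.rels, wval, him, ← mul_assoc, r01, r02, r03, r04, r05, r06, r12, r13, r14, r15, r16, r23, r24,
      r25, r26, r34, r35, r36, r45, r46, r56, p0, p1, p2, p3, p4, p5, p6, q1, q2, q3, q5, hs xD]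
  · set K := closure (im '' Set.Iio 7) with hK
    have hsub : ∀ {t : G}, t ∈ [x, a, a₂, a₃, b, z, e] → t ∈ K := fun {t} ht => by
      obtain ⟨i, hi, rfl⟩ := List.getElem_of_mem ht
      exact subset_closure ⟨i, by simpa using hi, List.getD_eq_getElem _ _ hi⟩
    refine P.eq_top Q ?_ (hsub (by simp)) (hsub (by simp))
      (Or.inr ⟨e, he, hsub (by simp), he'.1, he'.2.1, he'.2.2⟩)
    rw [hline]
    rintro t (rfl | rfl | rfl | rfl | rfl)
    rotate_right
    · exact mul_mem (mul_mem (mul_mem (hsub (by simp)) (hsub (by simp))) (hsub (by simp))) (hsub (by simp))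
    all_goals exact hsub (by simp)

/-- Relations in both factors and a bound on the order give a homomorphism between them. -/
theorem exists_hom_of_card_le {M : Type*} [Group M] [Finite M] {n : ℕ} {im : ℕ → G} {mm : ℕ → M}
    (hG : closure (im '' Set.Iio n) = ⊤) (hM : closure (mm '' Set.Iio n) = ⊤)
    [Finite (closure ((fun i => (im i, mm i)) '' Set.Iio n))]
    (hcard : Nat.card (closure ((fun i => (im i, mm i)) '' Set.Iio n)) ≤ Nat.card M) :
    ∃ φ : M →* G, Function.Surjective φ := by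
  set Δ := closure ((fun i => (im i, mm i)) '' Set.Iio n) with hΔ
  set p : Δ →* M := (MonoidHom.snd G M).comp Δ.subtype with hp
  set q : Δ →* G := (MonoidHom.fst G M).comp Δ.subtype with hq
  have hps : Function.Surjective p := by
    rw [← MonoidHom.range_eq_top, hp, MonoidHom.range_comp, range_subtype, hΔ, MonoidHom.map_closure,
      ← Set.image_comp]
    exact hM
  have hqs : Function.Surjective q := by
    rw [← MonoidHom.range_eq_top, hq, MonoidHom.range_comp, range_subtype, hΔ, MonoidHom.map_closure,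
      ← Set.image_comp]
    exact hG
  have hb : Function.Bijective p :=
    (Nat.bijective_iff_surjective_and_card p).2 ⟨hps, le_antisymm hcard (Nat.card_le_card_of_surjective p hps)⟩
  exact ⟨q.comp (MulEquiv.ofBijective p hb).symm.toMonoidHom, hqs.comp (MulEquiv.surjective _)⟩

theorem wval_prod {M : Type*} [Group M] (im : ℕ → G) (mm : ℕ → M) (w : List ℕ) :
    wval (fun i => (im i, mm i)) w = (wval im w, wval mm w) := by
  induction w with
  | nil => rfl
  | cons l w ih =>
    simp only [wval, List.map_cons, List.prod_cons] at ih ⊢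
    rw [ih]
    rfl

end Cfsg.Lib.ThreeTr.SolvablePerp
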