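import Cfsg.Agent.ThreeTransposition.SolvablePerp.Bound

/-!
A configuration of five transpositions, and a criterion for a subgroup containing it to be the whole group.
-/

set_option linter.unusedSectionVars false
set_option linter.style.haveILetI false

namespace Cfsg.Lib.ThreeTr.SolvablePerp

open Cfsg Subgroup Cfsg.Lib.ThreeTr

universe u

variable {G : Type u} [Group G] {D : Set G} {c : ℕ}

/-- A member fixed by conjugation by two commuting members it does not commute with. -/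
theorem commute_pair_conj (hE : IsThreeTranspositionSet D) {a a' b : G} (ha : a ∈ D) (ha' : a' ∈ D) (hb : b ∈ D)
    (hc : Commute a a') (h₁ : ¬ Commute a b) (h₂ : ¬ Commute a' b) :
    Commute b ((a * a') * b * (a * a')⁻¹) := by
  have ha'2 := sq_eq_one hE ha'
  have hb2 := sq_eq_one hE hb
  rw [mul_inv_rev, inv_eq hE ha, inv_eq hE ha']
  have e : (a * a') * b * (a' * a) = a' * (b * a * b) * a' := by
    calc (a * a') * b * (a' * a) = (a' * a) * b * (a * a') := by
          conv_lhs => rw [hc.eq]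
          rw [← hc.eq]
      _ = a' * (a * b * a) * a' := by simp only [mul_assoc]
      _ = _ := by rw [braid hE ha hb h₁]
  have hfix : b * ((a * a') * b * (a' * a)) * b = (a * a') * b * (a' * a) := by
    rw [e]
    calc b * (a' * (b * a * b) * a') * b = (b * a' * b) * a * (b * a' * b) := by simp only [mul_assoc]
      _ = (a' * b * a') * a * (a' * b * a') := by rw [braid hE hb ha' fun h => h₂ h.symm]
      _ = a' * b * (a' * a * a') * b * a' := by simp only [mul_assoc]
      _ = a' * b * a * b * a' := by rw [← hc.eq, mul_assoc a a' a', ha'2, mul_one]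
      _ = _ := by simp only [mul_assoc]
  show b * _ = _ * b
  conv_rhs => rw [← hfix]
  rw [mul_assoc _ b b, hb2, mul_one]

/-- The five transpositions `x`, `a`, `a₂`, `b`, `z`. -/
structure Pre (D : Set G) (x a a₂ b z : G) : Prop where
  hx : x ∈ D
  ha : a ∈ perp D x
  ha₂ : a₂ ∈ perp D x ∩ perp D a
  hb : b ∈ perp D x
  hab : ¬ Commute a b
  hz : z ∈ perp D a ∩ perp D b
  hxz : ¬ Commute x z

theorem Quad.exists_pre [Finite G] (Q : Quad D c) : ∃ x a a₂ b z : G, Pre D x a a₂ b z := by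
  obtain ⟨x, hx, -⟩ := Q.rich.cls.2.1
  obtain ⟨a, ha⟩ := Q.rich.exists_perp hx
  obtain ⟨a₂, ha₂⟩ : (perp D x ∩ perp D a).Nonempty := by
    rw [← Set.ncard_pos (Set.toFinite _), Q.common x hx a ha]
    have := Q.two_le; omega
  have hL := Q.isLine hx ha
  obtain ⟨b, hb, hbL⟩ := Q.exists_outside hL mem_line_left
  have hab : ¬ Commute a b := fun h =>
    hbL (hL.two b hb.1 x mem_line_left a mem_line_right ha.2.1.symm hb.2.2.symm h.symm)
  have hm : 3 ≤ (perp D a ∩ perp D b).ncard := by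
    rcases Q.parameters ha.1 hb.1 hab with ⟨-, h⟩ | ⟨-, h | h⟩ <;> omega
  obtain ⟨z, hz, hzx⟩ := Set.exists_ne_of_one_lt_ncard (s := perp D a ∩ perp D b) (by omega) x
  refine ⟨x, a, a₂, b, z, hx, ha, ha₂, hb, hab, hz, fun h => ?_⟩
  exact hzx ((Q.commute_eq ha.1 hb.1 hab ⟨perp_symm hx ha, perp_symm hx hb⟩ hz h).symm)

namespace Pre

variable {x a a₂ b z : G}

theorem zD (P : Pre D x a a₂ b z) : z ∈ D := P.hz.1.1

theorem amem (P : Pre D x a a₂ b z) : a ∈ perp D x ∩ perp D z := ⟨P.ha, perp_symm P.ha.1 P.hz.1⟩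

theorem bmem (P : Pre D x a a₂ b z) : b ∈ perp D x ∩ perp D z := ⟨P.hb, perp_symm P.hb.1 P.hz.2⟩

/-- The other neighbours of `x` on the line of `a`. -/
theorem not_commute_b [Finite G] (Q : Quad D c) (P : Pre D x a a₂ b z) {u : G} (hu : u ∈ perp D x)
    (hua : Commute u a) : ¬ Commute u b := fun h => by
  by_cases e : u = a
  · exact P.hab (e ▸ h)
  have hL := Q.isLine P.hx hu
  exact P.hab (hL.comm a (Or.inr (Or.inr ⟨P.ha, P.ha.1, Ne.symm e, hua⟩)) b
    (hL.two b P.hb.1 x mem_line_left u mem_line_right hu.2.1.symm P.hb.2.2.symm h.symm))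

theorem not_commute_z [Finite G] (Q : Quad D c) (P : Pre D x a a₂ b z) {u : G}
    (hu : u ∈ perp D x ∩ perp D a) : ¬ Commute u z := fun h =>
  hu.2.2.1 (Q.commute_eq P.hx P.zD P.hxz
    ⟨hu.1, hu.1.1, fun e => P.hxz (e ▸ hu.1.2.2), h.symm⟩ P.amem hu.2.2.2.symm)

/-- A subgroup containing the configuration and enough of the lines at `x` is everything. -/
theorem eq_top [Finite G] (Q : Quad D c) (P : Pre D x a a₂ b z) {K : Subgroup G} (hline : line D x a ⊆ K)
    (hbK : b ∈ K) (hzK : z ∈ K)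
    (he : (perp D x ∩ perp D z).ncard = 3 ∨
      ∃ e ∈ perp D x ∩ perp D z, e ∈ K ∧ e ≠ a ∧ e ≠ b ∧ e ≠ a * b * a) : K = ⊤ := by
  classical
  have hD := Q.rich.cls
  have hxK : x ∈ K := hline mem_line_left
  have haK : a ∈ K := hline mem_line_right
  have hLa := Q.isLine P.hx P.ha
  set T := perp D x ∩ perp D z with hT
  -- common neighbours in `K`
  set S := T ∩ (K : Set G) with hS
  have haS : a ∈ S := ⟨P.amem, haK⟩
  have hbS : b ∈ S := ⟨P.bmem, hbK⟩
  have hcl : ∀ u ∈ S, ∀ v ∈ S, u * v * u⁻¹ ∈ S := by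
    intro u hu v hv
    refine ⟨⟨?_, ?_⟩, mul_mem (mul_mem hu.2 hv.2) (inv_mem hu.2)⟩
    · have := (CoreThree.mem_perp_conj hD u).2 hv.1.1
      rwa [CoreThree.conj_fix hu.1.1.2.2.symm] at this
    · have := (CoreThree.mem_perp_conj hD u).2 hv.1.2
      rwa [CoreThree.conj_fix hu.1.2.2.2.symm] at this
  have hab3 : a * b * a ∈ S := by have := hcl a haS b hbS; rwa [inv_eq hD.1 P.ha.1] at this
  obtain ⟨i, hi⟩ := ncard_three_pow_of_noncommuting hD.1 (fun t ht => ht.1.1.1) haS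
    (fun u hu v hv => Q.commute_eq P.hx P.zD P.hxz hu.1 hv.1) hcl
  have hab' : a ≠ b := fun e => P.hab (e ▸ Commute.refl a)
  have hne1 : a * b * a ≠ a := fun e => hab' (by
    have e1 : a * b * a * a = a * a := by rw [e]
    rw [mul_assoc (a * b) a a, sq_eq_one hD.1 P.ha.1, mul_one, mul_eq_one_iff_eq_inv, inv_eq hD.1 P.hb.1] at e1
    exact e1)
  have hne2 : a * b * a ≠ b := fun e => P.hab (by
    show a * b = b * a
    calc a * b = a * b * a * a := by rw [mul_assoc (a * b) a a, sq_eq_one hD.1 P.ha.1, mul_one]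
      _ = b * a := by rw [e])
  have h3 : ({a, b, a * b * a} : Set G).ncard = 3 :=
    Set.ncard_eq_three.2 ⟨a, b, a * b * a, hab', hne1.symm, hne2.symm, rfl⟩
  have hsub : ({a, b, a * b * a} : Set G) ⊆ S := by rintro t (rfl | rfl | rfl) <;> assumption
  have hST : S = T := by
    refine Set.eq_of_subset_of_ncard_le Set.inter_subset_left ?_ (Set.toFinite _)
    rcases he with h | ⟨e, he, heK, hea, heb, hec⟩
    · rw [h, ← h3]; exact Set.ncard_le_ncard hsub (Set.toFinite _)
    · have h4 : 4 ≤ S.ncard := by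
        have := Set.ncard_le_ncard (show insert e ({a, b, a * b * a} : Set G) ⊆ S from
          Set.insert_subset ⟨he, heK⟩ hsub) (Set.toFinite _)
        rw [Set.ncard_insert_of_notMem (by simp [hea, heb, hec]) (Set.toFinite _), h3] at this
        exact this
      have hle : T.ncard ≤ 9 := by
        rw [hT]; rcases Q.parameters P.hx P.zD P.hxz with ⟨-, h⟩ | ⟨-, h | h⟩ <;> omega
      rcases Nat.lt_or_ge i 2 with hlt | hge
      · exfalso; interval_cases i <;> omega
      · have : 3 ^ 2 ≤ 3 ^ i := Nat.pow_le_pow_right (by norm_num) hge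
        omega
  have hTK : ∀ t ∈ T, t ∈ K := fun t ht => by rw [← hST] at ht; exact ht.2
  -- the lines at `x`
  set C : G → Set G := fun t => {u | u ∈ perp D x ∧ Commute u t} with hC
  have hCcard : ∀ t ∈ perp D x, (C t).ncard = c := by
    intro t ht
    have hset : C t = insert t (perp D x ∩ perp D t) := by
      ext u
      refine ⟨fun hu => ?_, ?_⟩
      · by_cases e : u = t
        · exact Or.inl e
        · exact Or.inr ⟨hu.1, hu.1.1, e, hu.2.symm⟩
      · rintro (rfl | ⟨hu, hu'⟩)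
        exacts [⟨ht, Commute.refl _⟩, ⟨hu, hu'.2.2.symm⟩]
    rw [hset, Set.ncard_insert_of_notMem (fun e => e.2.2.1 rfl) (Set.toFinite _), Q.common x P.hx t ht]
    have := Q.two_le; omega
  have hCa : C a ⊆ K := fun u hu => hline (hLa.two u hu.1.1 x mem_line_left a mem_line_right P.ha.2.1.symm
    hu.1.2.2.symm hu.2)
  have hCK : ∀ t ∈ T, C t ⊆ K := by
    intro t ht
    by_cases hta : Commute t a
    · exact Q.commute_eq P.hx P.zD P.hxz ht P.amem hta ▸ hCa
    set f : G → G := fun u => (a * u) * t * (a * u)⁻¹ with hf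
    have hnt : ∀ u ∈ C a, ¬ Commute u t := fun u hu hc => hta (by
      by_cases e : u = a
      · exact (e ▸ hc).symm
      have hL := Q.isLine P.hx hu.1
      exact hL.comm t (hL.two t ht.1.1 x mem_line_left u mem_line_right hu.1.2.1.symm ht.1.2.2.symm hc.symm) a
        (Or.inr (Or.inr ⟨P.ha, P.ha.1, Ne.symm e, hu.2⟩)))
    have himg : f '' C a ⊆ C t := by
      rintro _ ⟨u, hu, rfl⟩
      refine ⟨?_, (commute_pair_conj hD.1 P.ha.1 hu.1.1 ht.1.1 hu.2.symm (fun h => hta h.symm)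
        (hnt u hu)).symm⟩
      have := (CoreThree.mem_perp_conj hD (a * u)).2 ht.1
      rwa [CoreThree.conj_fix (P.ha.2.2.symm.mul_left hu.1.2.2.symm)] at this
    have hinj : Set.InjOn f (C a) := by
      intro u hu v hv huv
      by_contra hne
      have hcuv : Commute u v := hLa.comm u (hLa.two u hu.1.1 x mem_line_left a mem_line_right P.ha.2.1.symm
        hu.1.2.2.symm hu.2) v (hLa.two v hv.1.1 x mem_line_left a mem_line_right P.ha.2.1.symm hv.1.2.2.symm hv.2)
      have h1 : (u * v) * t * (u * v)⁻¹ = t := by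
        have h := congrArg (fun s => u * (a * s * a) * u) huv
        simp only [hf, mul_inv_rev, inv_eq hD.1 P.ha.1, inv_eq hD.1 hu.1.1, inv_eq hD.1 hv.1.1] at h
        simp only [mul_inv_rev, inv_eq hD.1 hu.1.1, inv_eq hD.1 hv.1.1]
        simp only [← mul_assoc] at h ⊢
        simp only [mul_assoc _ a a, sq_eq_one hD.1 P.ha.1, mul_one, mul_assoc _ u u, sq_eq_one hD.1 hu.1.1, one_mul] at h
        exact h.symm
      exact hnt u hu ((commute_pair_iff hD.1 hu.1.1 hv.1.1 ht.1.1 hne hcuv).1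
        (mul_inv_eq_iff_eq_mul.1 h1).symm).1.symm
    have heq : f '' C a = C t := Set.eq_of_subset_of_ncard_le himg
      (by rw [Set.ncard_image_of_injOn hinj, hCcard t ht.1, hCcard a P.ha]) (Set.toFinite _)
    rw [← heq]
    rintro _ ⟨u, hu, rfl⟩
    exact mul_mem (mul_mem (mul_mem haK (hCa hu)) (hTK t ht)) (inv_mem (mul_mem haK (hCa hu)))
  have hperp : ∀ u ∈ perp D x, u ∈ K := fun u hu => by
    obtain ⟨t, ⟨ht, hut⟩, -⟩ := Q.neighbour_unique P.hx P.zD P.hxz hu
    exact hCK t ht ⟨hu, hut⟩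
  -- conjugates of `x` in `K`
  set O : Set G := {d | ∃ g ∈ K, g * x * g⁻¹ = d} with hO
  have hOK : ∀ d ∈ O, d ∈ K := fun d ⟨g, hg, hgd⟩ => hgd ▸ mul_mem (mul_mem hg hxK) (inv_mem hg)
  have hOD : ∀ d ∈ O, d ∈ D := fun d ⟨g, _, hgd⟩ => hgd ▸ conj_mem hD g P.hx
  have hstep : ∀ p ∈ O, ∀ q ∈ D, q ∈ K → ¬ Commute p q → q ∈ O := by
    intro p hp q hq hqK hn
    have hpK := hOK p hp
    have hpD := hOD p hp
    obtain ⟨g, hg, rfl⟩ := hp
    exact ⟨g * x * g⁻¹ * q * g, mul_mem (mul_mem hpK hqK) hg, by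
      rw [show g * x * g⁻¹ * q * g * x * (g * x * g⁻¹ * q * g)⁻¹
        = (g * x * g⁻¹ * q) * (g * x * g⁻¹) * (g * x * g⁻¹ * q)⁻¹ by group]
      exact mul_conj_eq hD.1 hpD hq hn⟩
  have hzO : z ∈ O := hstep x ⟨1, one_mem _, by group⟩ z P.zD hzK P.hxz
  have ha₂O : a₂ ∈ O := hstep z hzO a₂ P.ha₂.1.1 (hperp _ P.ha₂.1) fun h => P.not_commute_z Q P.ha₂ h.symm
  have hna₂b : ¬ Commute a₂ b := P.not_commute_b Q P.ha₂.1 P.ha₂.2.2.2.symm
  have hbO : b ∈ O := hstep a₂ ha₂O b P.hb.1 hbK hna₂b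
  have hperpO : ∀ u ∈ perp D x, u ∈ O := by
    intro u hu
    by_cases h1 : Commute a₂ u
    swap
    · exact hstep a₂ ha₂O u hu.1 (hperp u hu) h1
    refine hstep b hbO u hu.1 (hperp u hu) fun h2 => hna₂b ?_
    by_cases e : u = a₂
    · exact e ▸ h2.symm
    have hL := Q.isLine P.hx hu
    exact hL.comm a₂ (Or.inr (Or.inr ⟨P.ha₂.1, P.ha₂.1.1, Ne.symm e, h1.symm⟩)) b
      (hL.two b P.hb.1 x mem_line_left u mem_line_right hu.2.1.symm P.hb.2.2.symm h2)
  have hclosed : ∀ d ∈ O, ∀ y ∈ perp D d, y ∈ O := by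
    rintro _ ⟨g, hg, rfl⟩ y hy
    rw [← conj_image_perp hD g x] at hy
    obtain ⟨v, hv, rfl⟩ := hy
    obtain ⟨k, hk, rfl⟩ := hperpO v hv
    exact ⟨g * k, mul_mem hg hk, by group⟩
  rw [eq_top_iff, ← hD.2.2, closure_le]
  intro d hd
  have hlink := Q.rich.linked P.hx hd
  suffices h : d ∈ O from hOK d h
  clear hd
  induction hlink with
  | refl => exact ⟨1, one_mem _, by group⟩
  | @tail p q _ hpq ih =>
    by_cases e : q = p
    · exact e ▸ ih
    · exact hclosed p ih q ⟨hpq.2.1, e, hpq.2.2⟩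

end Pre

end Cfsg.Lib.ThreeTr.SolvablePerp
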