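import Cfsg.Agent.ThreeTransposition.SolvablePerp.Width

/-!
Geometry of a class of 3-transpositions whose maximal cliques are lines: a member outside a line commutes with
exactly one of its members, lines have three or five members, and five members of a line have product one.
-/

set_option linter.unusedSectionVars false
set_option linter.style.haveILetI false

namespace Cfsg.Lib.ThreeTr.SolvablePerp

open Cfsg Subgroup Cfsg.Lib.ThreeTr

universe u

variable {G : Type u} [Group G] {D : Set G}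

/-- What is used of primitivity: neighbours, separation, common neighbours, connectedness. -/
structure Base (D : Set G) : Prop where
  cls : IsThreeTranspositionClass D
  exists_perp : ∀ {x : G}, x ∈ D → ∃ a, a ∈ perp D x
  exists_sep : ∀ {x a : G}, x ∈ D → a ∈ perp D x → ∃ z ∈ D, Commute a z ∧ ¬ Commute x z
  inter : ∀ {x z : G}, x ∈ D → z ∈ D → ¬ Commute x z → (perp D x ∩ perp D z).Nonempty
  linked : ∀ {x d : G}, x ∈ D → d ∈ D → Linked D x d

theorem Base.of_rich [Finite G] (hR : Rich D) : Base D where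
  cls := hR.cls
  exists_perp hx := hR.exists_perp hx
  exists_sep hx ha := hR.exists_sep hx ha
  inter {x z} hx hz h := by
    obtain ⟨a, ha⟩ := hR.exists_perp hx
    obtain ⟨z₀, hz₀, haz, hxz⟩ := hR.exists_sep hx ha
    obtain ⟨g, hg, rfl⟩ := hR.nonperp_transitive hx hz₀ hxz hz h
    refine ⟨g * a * g⁻¹, ?_, ?_⟩
    · have := (CoreThree.mem_perp_conj hR.cls g).2 ha
      rwa [CoreThree.conj_fix hg] at this
    · exact (CoreThree.mem_perp_conj hR.cls g).2 ⟨ha.1, fun h => hxz (h ▸ ha.2.2), haz.symm⟩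
  linked hx hd := linked_of_primitive hR.prim hR.cls hR.pair hx hd

/-- Every edge lies in one maximal clique, and these have `c + 1` members. -/
structure Quad (D : Set G) (c : ℕ) : Prop where
  rich : Base D
  two_le : 2 ≤ c
  common : ∀ x ∈ D, ∀ a ∈ perp D x, (perp D x ∩ perp D a).ncard = c - 1
  clique : ∀ x ∈ D, ∀ a ∈ perp D x, ∀ b ∈ perp D x ∩ perp D a, ∀ b' ∈ perp D x ∩ perp D a, Commute b b'
  center : Subgroup.center G = ⊥

theorem exists_quad [Finite G] (hR : Rich D) (hZ : Subgroup.center G = ⊥) {x : G} (hx : x ∈ D)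
    (hs : Group.IsSolvable (closure (perp D x)))
    (hO : oddCore (closure (perp D x)) ≤ Subgroup.center (closure (perp D x))) : ∃ c, Quad D c := by
  obtain ⟨a, ha, b, hb, hne⟩ := exists_twin hR hx hs hO
  have hab : b ∈ perp D a := ⟨hb.1.1, hne, (hb.2 b hb.1).2 (Commute.refl b)⟩
  refine ⟨(perp D x ∩ perp D a).ncard + 1, Base.of_rich hR, ?_, fun y hy d hd => ?_, fun y hy d hd e he e' he' => ?_, hZ⟩
  · have : 0 < (perp D x ∩ perp D a).ncard := (Set.ncard_pos (Set.toFinite _)).2 ⟨b, hb.1, hab⟩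
    omega
  · rw [ncard_common_eq hR hx ha hy hd]; omega
  · obtain ⟨g, rfl⟩ := exists_conj hR.cls hx hy
    obtain ⟨d₀, hd₀, rfl⟩ : d ∈ (fun t => g * t * g⁻¹) '' perp D x := by rwa [conj_image_perp hR.cls g x]
    have hmem : ∀ t, t ∈ perp D (g * x * g⁻¹) ∩ perp D (g * d₀ * g⁻¹) →
        ∃ s ∈ perp D x ∩ perp D d₀, g * s * g⁻¹ = t := by
      intro t ht
      rw [← conj_image_perp hR.cls g x, ← conj_image_perp hR.cls g d₀,
        ← Set.image_inter (conj_image_injective g)] at ht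
      exact ht
    obtain ⟨e₀, he₀, rfl⟩ := hmem e he
    obtain ⟨e₁, he₁, rfl⟩ := hmem e' he'
    rw [conj_commute_iff]
    exact ((width hR hx hs hO hd₀ he₀.1 he₀.2.2.2) e₁ he₁.1).1 he₁.2.2.2

/-- Pairwise commuting sets with `c + 1` members containing every member that commutes with two of theirs. -/
structure IsLine (D : Set G) (c : ℕ) (L : Set G) : Prop where
  sub : L ⊆ D
  comm : ∀ u ∈ L, ∀ v ∈ L, Commute u v
  card : L.ncard = c + 1
  two : ∀ z ∈ D, ∀ u ∈ L, ∀ v ∈ L, u ≠ v → Commute z u → Commute z v → z ∈ L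

/-- The line of an edge. -/
def line (D : Set G) (x a : G) : Set G := insert x (insert a (perp D x ∩ perp D a))

theorem mem_line_left {x a : G} : x ∈ line D x a := Set.mem_insert _ _

theorem mem_line_right {x a : G} : a ∈ line D x a := Set.mem_insert_of_mem _ (Set.mem_insert _ _)

variable {c : ℕ}

theorem Quad.isLine [Finite G] (Q : Quad D c) {x a : G} (hx : x ∈ D) (ha : a ∈ perp D x) :
    IsLine D c (line D x a) := by
  have hsub : ∀ {p q : G}, p ∈ D → q ∈ perp D p → line D p q ⊆ D := fun hp hq t ht => by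
    rcases ht with rfl | rfl | ht
    exacts [hp, hq.1, ht.1.1]
  have hcomm : ∀ u ∈ line D x a, ∀ v ∈ line D x a, Commute u v := by
    intro u hu v hv
    rcases hu with rfl | rfl | hu <;> rcases hv with rfl | rfl | hv
    exacts [Commute.refl _, ha.2.2, hv.1.2.2, ha.2.2.symm, Commute.refl _, hv.2.2.2, hu.1.2.2.symm, hu.2.2.2.symm,
      Q.clique x hx a ha u hu v hv]
  have hcard : ∀ {p q : G}, p ∈ D → q ∈ perp D p → (line D p q).ncard = c + 1 := by
    intro p q hp hq
    rw [line, Set.ncard_insert_of_notMem ?_ (Set.toFinite _), Set.ncard_insert_of_notMem ?_ (Set.toFinite _),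
      Q.common p hp q hq]
    · have := Q.two_le; omega
    · exact fun h => h.2.2.1 rfl
    · rintro (h | h)
      exacts [hq.2.1 h.symm, h.1.2.1 rfl]
  refine ⟨hsub hx ha, hcomm, hcard hx ha, fun z hz u hu v hv huv hzu hzv => ?_⟩
  have huD := hsub hx ha hu
  have hvu : v ∈ perp D u := ⟨hsub hx ha hv, huv.symm, hcomm u hu v hv⟩
  have heq : line D x a = line D u v := by
    refine Set.eq_of_subset_of_ncard_le (fun t ht => ?_) (by rw [hcard hx ha, hcard huD hvu]) (Set.toFinite _)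
    by_cases htu : t = u
    · exact htu ▸ mem_line_left
    by_cases htv : t = v
    · exact htv ▸ mem_line_right
    exact Or.inr (Or.inr ⟨⟨hsub hx ha ht, htu, hcomm u hu t ht⟩, hsub hx ha ht, htv, hcomm v hv t ht⟩)
  rw [heq]
  by_cases hzu' : z = u
  · exact hzu' ▸ mem_line_left
  by_cases hzv' : z = v
  · exact hzv' ▸ mem_line_right
  exact Or.inr (Or.inr ⟨⟨hz, hzu', hzu.symm⟩, hz, hzv', hzv.symm⟩)

theorem IsLine.mem_perp {L : Set G} (hL : IsLine D c L) {u v : G} (hu : u ∈ L) (hv : v ∈ L) (h : v ≠ u) :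
    v ∈ perp D u := ⟨hL.sub hv, h, hL.comm u hu v hv⟩

/-- At most one member of a line commutes with an outside member. -/
theorem IsLine.eq_of_commute {L : Set G} (hL : IsLine D c L) {z u v : G} (hz : z ∈ D) (hzL : z ∉ L) (hu : u ∈ L)
    (hv : v ∈ L) (hzu : Commute z u) (hzv : Commute z v) : u = v :=
  by_contra fun h => hzL (hL.two z hz u hu v hv h hzu hzv)

/-- Three members of a line and an outside member determine a fourth one of the line. -/
theorem IsLine.fourth {L : Set G} (hD : IsThreeTranspositionClass D) (hL : IsLine D c L) {p q u z : G} (hp : p ∈ L)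
    (hq : q ∈ L) (hu : u ∈ L) (hpq : p ≠ q) (hpu : p ≠ u) (hqu : q ≠ u) (hz : z ∈ D) (hzp : ¬ Commute z p)
    (hzq : ¬ Commute z q) (hzu : ¬ Commute z u) :
    ∃ w ∈ L, w ≠ p ∧ w ≠ q ∧ w ≠ u ∧ ¬ Commute z w ∧
      z * ((p * q * u) * z * (p * q * u)⁻¹) * z = w ∧ Commute (p * q * u * w) z := by
  have hpD := hL.sub hp
  have hqD := hL.sub hq
  have huD := hL.sub hu
  set z' := (p * q * u) * z * (p * q * u)⁻¹ with hz'
  set w := z * z' * z with hw
  have hwD : w ∈ D := conj_invol_mem hD hz (conj_mem hD _ hz)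
  have hz2 := sq_eq_one hD.1 hz
  -- `w` is centralised by each of `p`, `q`, `u`
  have key : ∀ a ∈ L, ∀ b ∈ L, ∀ e ∈ L, ¬ Commute z a → ¬ Commute z b → ¬ Commute z e →
      Commute (z * ((a * b * e) * z * (a * b * e)⁻¹) * z) a := by
    intro a ha b hb e he hza hzb hze
    have haD := hL.sub ha
    have hbD := hL.sub hb
    have heD := hL.sub he
    have b1 := braid hD.1 hz haD hza
    have b2 := braid hD.1 hz hbD hzb
    have b3 := braid hD.1 hz heD hze
    have cab : Commute a b := hL.comm a ha b hb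
    have cbe : Commute b e := hL.comm b hb e he
    have hW : z * ((a * b * e) * z * (a * b * e)⁻¹) * z
        = a * (z * ((a * b * e) * z * (a * b * e)⁻¹) * z) * a := by
      simp only [mul_inv_rev, inv_eq hD.1 haD, inv_eq hD.1 hbD, inv_eq hD.1 heD]
      calc z * (a * b * e * z * (e * (b * a))) * z
          = z * a * (b * (e * z * e) * b) * a * z := by simp only [mul_assoc]
        _ = z * a * (b * (z * e * z) * b) * a * z := by rw [b3]
        _ = z * a * (b * z * (b * b) * e * z * b) * a * z := by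
            rw [sq_eq_one hD.1 hbD, mul_one]; simp only [mul_assoc]
        _ = z * a * ((b * z * b) * e * (b * z * b)) * a * z := by
            rw [show b * z * (b * b) * e * z * b = b * z * b * (b * e) * z * b by simp only [mul_assoc], cbe.eq]
            simp only [mul_assoc]
        _ = z * a * ((z * b * z) * e * (z * b * z)) * a * z := by rw [b2]
        _ = (z * a * z) * (b * z * e * z * b) * (z * a * z) := by simp only [mul_assoc]
        _ = (a * z * a) * (b * (z * e * z) * b) * (a * z * a) := by rw [b1]; simp only [mul_assoc]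
        _ = (a * z * a) * (b * (e * z * e) * b) * (a * z * a) := by rw [b3]
        _ = a * (z * (a * b * e * z * (e * (b * a))) * z) * a := by simp only [mul_assoc]
    show _ * a = a * _
    conv_lhs => rw [hW, mul_assoc, sq_eq_one hD.1 haD, mul_one]
  have e3 : (p * q * u) = (q * p * u) ∧ (p * q * u) = (u * q * p) := by
    have c1 : Commute p q := hL.comm p hp q hq
    have c2 : Commute p u := hL.comm p hp u hu
    have c3 : Commute q u := hL.comm q hq u hu
    refine ⟨by rw [c1.eq], ?_⟩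
    rw [mul_assoc, c3.eq, ← mul_assoc, c2.eq, mul_assoc, c1.eq, ← mul_assoc]
  have hwp : Commute w p := key p hp q hq u hu hzp hzq hzu
  have hwq : Commute w q := by rw [hw, hz', e3.1]; exact key q hq p hp u hu hzq hzp hzu
  have hwu : Commute w u := by rw [hw, hz', e3.2]; exact key u hu q hq p hp hzu hzq hzp
  have hwL : w ∈ L := hL.two w hwD p hp q hq hpq hwp hwq
  have hzz : z' = z * w * z := by rw [hw]; exact (invol_conj_conj hz2 z').symm
  -- it is none of the three
  have hne : ∀ a ∈ L, ∀ b ∈ L, ∀ e ∈ L, b ≠ e → ¬ Commute z a → ¬ Commute z b →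
      z * ((a * b * e) * z * (a * b * e)⁻¹) * z ≠ a := by
    intro a ha b hb e he hbe hza hzb h
    have haD := hL.sub ha
    have hc : (b * e) * z * (b * e)⁻¹ = z := by
      have h1 : (a * b * e) * z * (a * b * e)⁻¹ = a * z * a := by
        conv_lhs => rw [← invol_conj_conj hz2 ((a * b * e) * z * (a * b * e)⁻¹)]
        rw [h, braid hD.1 hz haD hza]
      have h2 := congrArg (fun t => a * t * a) h1
      simp only [mul_inv_rev, inv_eq hD.1 haD] at h2 ⊢
      rw [invol_conj_conj (sq_eq_one hD.1 haD)] at h2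
      refine Eq.trans ?_ h2
      simp only [← mul_assoc, sq_eq_one hD.1 haD, one_mul]
      rw [mul_assoc _ a a, sq_eq_one hD.1 haD, mul_one]
    exact hzb ((commute_pair_iff hD.1 (hL.sub hb) (hL.sub he) hz hbe (hL.comm b hb e he)).1
      (mul_inv_eq_iff_eq_mul.1 hc).symm).1
  have hwnp : w ≠ p := hne p hp q hq u hu hqu hzp hzq
  have hwnq : w ≠ q := by rw [hw, hz', e3.1]; exact hne q hq p hp u hu hpu hzq hzp
  have hwnu : w ≠ u := by rw [hw, hz', e3.2]; exact hne u hu q hq p hp hpq.symm hzu hzq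
  have hcpw : Commute (p * q * u) w := ((hwp.symm.mul_left hwq.symm).mul_left hwu.symm)
  have hwz : ¬ Commute z w := by
    intro h
    have h1 : z' = w := by rw [hzz, h.eq, mul_assoc, hz2, mul_one]
    have h2 : z = w := by
      rw [hz'] at h1
      have h3 : (p * q * u) * w * (p * q * u)⁻¹ = w := by rw [hcpw.eq, mul_inv_cancel_right]
      exact mul_left_cancel (mul_right_cancel (h1.trans h3.symm))
    exact hzp (h2 ▸ hwp)
  refine ⟨w, hwL, hwnp, hwnq, hwnu, hwz, rfl, ?_⟩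
  have h1 : (p * q * u * w) * z * (p * q * u * w)⁻¹ = z := by
    rw [hcpw.eq, mul_inv_rev, inv_eq hD.1 hwD]
    calc w * (p * q * u) * z * ((p * q * u)⁻¹ * w) = w * z' * w := by rw [hz']; simp only [mul_assoc]
      _ = w * (w * z * w) * w := by rw [hzz, braid hD.1 hz hwD hwz]
      _ = z := invol_conj_conj (sq_eq_one hD.1 hwD) z
  exact mul_inv_eq_iff_eq_mul.1 h1

theorem Quad.conj_edge [Finite G] (Q : Quad D c) {x z : G} (hx : x ∈ D) (hz : z ∈ D) (h : ¬ Commute x z) :
    (perp D x ∩ perp D z).Nonempty := Q.rich.inter hx hz h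

/-- A member outside a line commutes with some member of it. -/
theorem Quad.exists_commute [Finite G] (Q : Quad D c) {L : Set G} (hL : IsLine D c L) {z : G} (hz : z ∈ D)
    (hzL : z ∉ L) : ∃ u ∈ L, Commute z u := by
  have hD := Q.rich.cls
  by_contra hnone
  push Not at hnone
  have h3 : 3 ≤ L.ncard := by have := hL.card; have := Q.two_le; omega
  obtain ⟨p, q, u, hp, hq, hu, hpq, hpu, hqu⟩ := (Set.two_lt_ncard_iff (Set.toFinite L)).1 (by omega)
  obtain ⟨w, hw, hwp, hwq, hwu, -, -, hcomm⟩ :=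
    hL.fourth hD hp hq hu hpq hpu hqu hz (hnone p hp) (hnone q hq) (hnone u hu)
  obtain ⟨y, hyp, hyz⟩ := Q.conj_edge (hL.sub hp) hz fun h => hnone p hp h.symm
  have hyL : y ∉ L := fun h => hnone y h hyz.2.2
  have hy : ∀ v ∈ L, v ≠ p → ¬ Commute y v := fun v hv hne h =>
    hne (hL.eq_of_commute hyp.1 hyL hv hp h hyp.2.2.symm)
  obtain ⟨w', hw', -, -, -, -, hformula, -⟩ :=
    hL.fourth hD hq hu hw hqu hwq.symm hwu.symm hyp.1 (hy q hq hpq.symm) (hy u hu hpu.symm) (hy w hw hwp)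
  have hconj : (q * u * w) * y * (q * u * w)⁻¹ = (p * q * u * w) * y * (p * q * u * w)⁻¹ := by
    have hcp : Commute p ((q * u * w) * y * (q * u * w)⁻¹) := by
      have h1 : Commute p (q * u * w) :=
        ((hL.comm p hp q hq).mul_right (hL.comm p hp u hu)).mul_right (hL.comm p hp w hw)
      exact (h1.mul_right hyp.2.2).mul_right h1.inv_right
    rw [show p * q * u * w * y * (p * q * u * w)⁻¹ = p * ((q * u * w) * y * (q * u * w)⁻¹) * p⁻¹ by group,
      hcp.eq, mul_inv_cancel_right]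
  have hcz : Commute z ((q * u * w) * y * (q * u * w)⁻¹) := by
    rw [hconj]; exact (hcomm.symm.mul_right hyz.2.2).mul_right hcomm.symm.inv_right
  exact hnone w' hw' (hformula ▸ (hyz.2.2.mul_right hcz).mul_right hyz.2.2)

theorem Quad.existsUnique [Finite G] (Q : Quad D c) {L : Set G} (hL : IsLine D c L) {z : G} (hz : z ∈ D)
    (hzL : z ∉ L) : ∃! u, u ∈ L ∧ Commute z u := by
  obtain ⟨u, hu, hc⟩ := Q.exists_commute hL hz hzL
  exact ⟨u, ⟨hu, hc⟩, fun v hv => hL.eq_of_commute hz hzL hv.1 hu hv.2 hc⟩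

/-- A member has a neighbour outside each of its lines. -/
theorem Quad.exists_outside [Finite G] (Q : Quad D c) {L : Set G} (hL : IsLine D c L) {z : G} (hz : z ∈ L) :
    ∃ n ∈ perp D z, n ∉ L := by
  obtain ⟨r, hr, hrz⟩ := Set.exists_ne_of_one_lt_ncard (s := L) (by have := hL.card; have := Q.two_le; omega) z
  obtain ⟨e, he, hre, hze⟩ := Q.rich.exists_sep (hL.sub hz) (hL.mem_perp hz hr hrz)
  have heL : e ∉ L := fun h => hze (hL.comm z hz e h)
  by_contra hall
  push Not at hall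
  have h1 : (perp D z).ncard ≤ c := by
    have := Set.ncard_le_ncard (show perp D z ⊆ L \ {z} from fun n hn => ⟨hall n hn, hn.2.1⟩) (Set.toFinite _)
    rw [Set.ncard_sdiff_singleton_of_mem hz, hL.card] at this
    omega
  have h2 : c + 1 ≤ (perp D r).ncard := by
    have := Set.ncard_le_ncard (show insert e (L \ {r}) ⊆ perp D r from Set.insert_subset
      ⟨he, fun h => heL (h ▸ hr), hre⟩ fun n hn => hL.mem_perp hr hn.1 hn.2) (Set.toFinite _)
    rw [Set.ncard_insert_of_notMem (fun h => heL h.1) (Set.toFinite _), Set.ncard_sdiff_singleton_of_mem hr,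
      hL.card] at this
    omega
  rw [ncard_perp_eq Q.rich.cls (hL.sub hr) (hL.sub hz)] at h2
  omega

theorem Quad.exists_line [Finite G] (Q : Quad D c) : ∃ (L : Set G) (r z : G), IsLine D c L ∧ r ∈ L ∧ z ∈ D ∧ z ∉ L ∧
    Commute z r := by
  obtain ⟨x, hx, -⟩ := Q.rich.cls.2.1
  obtain ⟨a, ha⟩ := Q.rich.exists_perp hx
  obtain ⟨z, hz, haz, hxz⟩ := Q.rich.exists_sep hx ha
  have hL := Q.isLine hx ha
  exact ⟨_, a, z, hL, mem_line_right, hz, fun h => hxz (hL.comm x mem_line_left z h), haz.symm⟩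

theorem Quad.ne_three [Finite G] (Q : Quad D c) : c ≠ 3 := by
  rintro rfl
  obtain ⟨L, r, z, hL, hr, hz, hzL, hzr⟩ := Q.exists_line
  have h3 : (L \ {r}).ncard = 3 := by rw [Set.ncard_sdiff_singleton_of_mem hr, hL.card]
  obtain ⟨p, q, u, hpq, hpu, hqu, heq⟩ := Set.ncard_eq_three.1 h3
  have hmem : ∀ v ∈ ({p, q, u} : Set G), v ∈ L ∧ ¬ Commute z v := fun v hv => by
    rw [← heq] at hv
    exact ⟨hv.1, fun h => hv.2 (hL.eq_of_commute hz hzL hv.1 hr h hzr)⟩
  obtain ⟨hp, hzp⟩ := hmem p (by simp)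
  obtain ⟨hq, hzq⟩ := hmem q (by simp)
  obtain ⟨hu, hzu⟩ := hmem u (by simp)
  obtain ⟨w, hw, hwp, hwq, hwu, hzw, -, -⟩ := hL.fourth Q.rich.cls hp hq hu hpq hpu hqu hz hzp hzq hzu
  have hwr : w = r := by
    by_contra h
    have hm : w ∈ L \ {r} := ⟨hw, h⟩
    rw [heq] at hm
    simp [hwp, hwq, hwu] at hm
  exact hzw (hwr ▸ hzr)

theorem Quad.le_four [Finite G] (Q : Quad D c) : c ≤ 4 := by
  by_contra! hc
  have hD := Q.rich.cls
  obtain ⟨L, r, z, hL, hr, hz, hzL, hzr⟩ := Q.exists_line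
  have hnz : ∀ v ∈ L, v ≠ r → ¬ Commute z v := fun v hv hne h => hne (hL.eq_of_commute hz hzL hv hr h hzr)
  have hcard : (L \ {r}).ncard = c := by rw [Set.ncard_sdiff_singleton_of_mem hr, hL.card]; omega
  obtain ⟨a₁, a₂, a₃, ⟨h₁, h₁r⟩, ⟨h₂, h₂r⟩, ⟨h₃, h₃r⟩, h12, h13, h23⟩ :=
    (Set.two_lt_ncard_iff (Set.toFinite (L \ {r}))).1 (by omega)
  obtain ⟨a₄, h₄, h41, h42, h43, hz4, -, hA⟩ :=
    hL.fourth hD h₁ h₂ h₃ h12 h13 h23 hz (hnz _ h₁ h₁r) (hnz _ h₂ h₂r) (hnz _ h₃ h₃r)
  have h4r : a₄ ≠ r := fun h => hz4 (h ▸ hzr)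
  obtain ⟨b₃, hb₃, hb3'⟩ : ∃ b ∈ L \ {r}, b ∉ ({a₁, a₂, a₃, a₄} : Set G) := by
    refine Set.exists_mem_notMem_of_ncard_lt_ncard (lt_of_le_of_lt ?_ (show 4 < (L \ {r}).ncard by omega))
      (Set.toFinite _)
    refine (Set.ncard_insert_le _ _).trans (Nat.succ_le_succ ((Set.ncard_insert_le _ _).trans
      (Nat.succ_le_succ ((Set.ncard_insert_le _ _).trans (by rw [Set.ncard_singleton])))))
  simp only [Set.mem_insert_iff, Set.mem_singleton_iff, not_or] at hb3'
  obtain ⟨hb31, hb32, hb33, hb34⟩ := hb3'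
  obtain ⟨hb₃L, hb3r⟩ := hb₃
  obtain ⟨b₄, hb₄, hb41, hb42, hb43, hzb4, -, hB⟩ :=
    hL.fourth hD h₁ h₂ hb₃L h12 (Ne.symm hb31) (Ne.symm hb32) hz (hnz _ h₁ h₁r) (hnz _ h₂ h₂r) (hnz _ hb₃L hb3r)
  set s := a₁ * a₂ with hs
  have hgz : Commute (a₃ * a₄ * (b₃ * b₄)) z := by
    have h : a₃ * a₄ * (b₃ * b₄) = (s * a₃ * a₄) * (s * b₃ * b₄) := by
      have hc1 : Commute s (a₃ * a₄) := (((hL.comm _ h₁ _ h₃).mul_left (hL.comm _ h₂ _ h₃)).mul_right
        ((hL.comm _ h₁ _ h₄).mul_left (hL.comm _ h₂ _ h₄)))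
      have hs2 : s * s = 1 := by
        rw [hs]; exact (sq _).symm.trans ((commute_iff_sq (sq_eq_one hD.1 (hL.sub h₁)) (sq_eq_one hD.1 (hL.sub h₂))).1
          (hL.comm _ h₁ _ h₂))
      calc a₃ * a₄ * (b₃ * b₄) = (s * s) * (a₃ * a₄) * (b₃ * b₄) := by rw [hs2, one_mul]
        _ = s * ((a₃ * a₄) * s) * (b₃ * b₄) := by rw [← hc1.eq]; simp only [mul_assoc]
        _ = _ := by simp only [mul_assoc]
    rw [h]
    exact hA.mul_left hB
  have hb44 : b₄ ≠ a₄ := by
    intro h
    subst h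
    have e : a₃ * b₄ * (b₃ * b₄) = a₃ * b₃ := by
      rw [(hL.comm _ hb₃L _ h₄).eq, ← mul_assoc, mul_assoc a₃ b₄ b₄, sq_eq_one hD.1 (hL.sub h₄), mul_one]
    rw [e] at hgz
    exact hnz _ h₃ h₃r ((commute_pair_iff hD.1 (hL.sub h₃) (hL.sub hb₃L) hz (Ne.symm hb33)
      (hL.comm _ h₃ _ hb₃L)).1 hgz.symm).1
  -- a second line through `z`
  have hrz : r ≠ z := fun h => hzL (h ▸ hr)
  have hM := Q.isLine hz (a := r) ⟨hL.sub hr, hrz, hzr⟩
  obtain ⟨n, hn, hnM⟩ := Q.exists_outside hM mem_line_left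
  have hK := Q.isLine hz hn
  set K := line D z n with hKdef
  have hzK : z ∈ K := mem_line_left
  have hrK : r ∉ K := fun h => hnM (hM.two n hn.1 z mem_line_left r mem_line_right (Ne.symm hrz) hn.2.2.symm
    (hK.comm n mem_line_right r h))
  have ha1K : a₁ ∉ K := fun h => hnz _ h₁ h₁r (hK.comm z hzK a₁ h)
  obtain ⟨y, hyK, hya⟩ := Q.exists_commute hK (hL.sub h₁) ha1K
  have hyz : Commute y z := hK.comm y hyK z hzK
  have hyne : y ≠ z := fun h => hnz _ h₁ h₁r (h ▸ hya.symm)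
  have hyL : y ∉ L := fun h => hrK ((hL.eq_of_commute hz hzL h hr hyz.symm hzr) ▸ hyK)
  have hyn : ∀ v ∈ L, v ≠ a₁ → ¬ Commute y v := fun v hv hne h =>
    hne (hL.eq_of_commute (hK.sub hyK) hyL hv h₁ h hya.symm)
  -- both blocks move `y` to the same place
  have hmove : ∀ p ∈ L, ∀ q ∈ L, p ≠ a₁ → q ≠ a₁ → p ≠ a₂ → q ≠ a₂ → p ≠ q → Commute (s * p * q) z →
      y * ((a₂ * p * q) * y * (a₂ * p * q)⁻¹) * y = r := by
    intro p hp q hq hp1 hq1 hp2 hq2 hpq hcz
    obtain ⟨w, hw, -, -, -, -, hformula, -⟩ := hL.fourth hD h₂ hp hq (Ne.symm hp2) (Ne.symm hq2) hpq (hK.sub hyK)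
      (hyn _ h₂ h12.symm) (hyn _ hp hp1) (hyn _ hq hq1)
    have hconj : (a₂ * p * q) * y * (a₂ * p * q)⁻¹ = (s * p * q) * y * (s * p * q)⁻¹ := by
      have hcp : Commute a₁ ((a₂ * p * q) * y * (a₂ * p * q)⁻¹) := by
        have h1 : Commute a₁ (a₂ * p * q) :=
          ((hL.comm _ h₁ _ h₂).mul_right (hL.comm _ h₁ _ hp)).mul_right (hL.comm _ h₁ _ hq)
        exact (h1.mul_right hya).mul_right h1.inv_right
      rw [hs, show a₁ * a₂ * p * q * y * (a₁ * a₂ * p * q)⁻¹ = a₁ * ((a₂ * p * q) * y * (a₂ * p * q)⁻¹) * a₁⁻¹ by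
        group, hcp.eq, mul_inv_cancel_right]
    have hwz : Commute z w := by
      have : Commute z ((a₂ * p * q) * y * (a₂ * p * q)⁻¹) := by
        rw [hconj]; exact (hcz.symm.mul_right hyz.symm).mul_right hcz.symm.inv_right
      exact hformula ▸ (hyz.symm.mul_right this).mul_right hyz.symm
    rw [hformula]
    exact hL.eq_of_commute hz hzL hw hr hwz hzr
  have hab := (hmove a₃ h₃ a₄ h₄ h13.symm h41 h23.symm h42 (Ne.symm h43) hA).trans
    (hmove b₃ hb₃L b₄ hb₄ hb31 hb41 hb32 hb42 (Ne.symm hb43) hB).symm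
  have hgy : Commute (a₃ * a₄ * (b₃ * b₄)) y := by
    have h := mul_left_cancel (mul_right_cancel hab)
    set S := a₂ * b₃ * b₄ with hSdef
    have hS : S⁻¹ = S := by
      simp only [hSdef, mul_inv_rev, inv_eq hD.1 (hL.sub hb₄), inv_eq hD.1 (hL.sub hb₃L), inv_eq hD.1 (hL.sub h₂)]
      rw [(hL.comm _ hb₃L _ h₂).eq, ((hL.comm _ hb₄ _ h₂).mul_right (hL.comm _ hb₄ _ hb₃L)).eq]
    have e : a₃ * a₄ * (b₃ * b₄) = S⁻¹ * (a₂ * a₃ * a₄) := by
      have hc1 : Commute (a₃ * a₄) (b₃ * b₄) := ((hL.comm _ h₃ _ hb₃L).mul_left (hL.comm _ h₄ _ hb₃L)).mul_right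
        ((hL.comm _ h₃ _ hb₄).mul_left (hL.comm _ h₄ _ hb₄))
      have hc2 : Commute a₂ (b₃ * b₄) := (hL.comm _ h₂ _ hb₃L).mul_right (hL.comm _ h₂ _ hb₄)
      rw [hS, hc1.eq, hSdef]
      calc b₃ * b₄ * (a₃ * a₄) = (a₂ * a₂) * (b₃ * b₄) * (a₃ * a₄) := by rw [sq_eq_one hD.1 (hL.sub h₂), one_mul]
        _ = a₂ * ((b₃ * b₄) * a₂) * (a₃ * a₄) := by rw [← hc2.eq]; simp only [mul_assoc]
        _ = _ := by simp only [mul_assoc]
    rw [e]
    refine mul_inv_eq_iff_eq_mul.1 ?_
    calc S⁻¹ * (a₂ * a₃ * a₄) * y * (S⁻¹ * (a₂ * a₃ * a₄))⁻¹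
        = S⁻¹ * ((a₂ * a₃ * a₄) * y * (a₂ * a₃ * a₄)⁻¹) * S := by group
      _ = y := by rw [h]; group
  -- the neighbour of `a₃` on `K`
  have ha3K : a₃ ∉ K := fun h => hnz _ h₃ h₃r (hK.comm z hzK a₃ h)
  obtain ⟨h, hh, hha⟩ := Q.exists_commute hK (hL.sub h₃) ha3K
  set g := a₃ * a₄ * (b₃ * b₄) with hg
  have hga : Commute g a₃ := (((Commute.refl a₃).mul_left (hL.comm _ h₄ _ h₃)).mul_left
    ((hL.comm _ hb₃L _ h₃).mul_left (hL.comm _ hb₄ _ h₃)))
  have hgh : g * h * g⁻¹ = h := by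
    have hD' := conj_mem hD g (hK.sub hh)
    have h1 : g * h * g⁻¹ ∈ K := hK.two _ hD' y hyK z hzK hyne
      (by rw [← CoreThree.conj_fix hgy]; simpa only [mul_inv_cancel_right, conj_commute_iff, CoreThree.conj_fix hgy]
        using (conj_commute_iff g h y).2 (hK.comm h hh y hyK))
      (by simpa only [CoreThree.conj_fix hgz] using (conj_commute_iff g h z).2 (hK.comm h hh z hzK))
    refine hK.eq_of_commute (hL.sub h₃) ha3K h1 hh ?_ hha
    simpa only [CoreThree.conj_fix hga] using ((conj_commute_iff g h a₃).2 hha.symm).symm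
  have hg4 : Commute h (a₄ * b₃ * b₄) := by
    have e : a₄ * b₃ * b₄ = a₃ * g := by
      rw [hg]; simp only [← mul_assoc, sq_eq_one hD.1 (hL.sub h₃), one_mul]
    rw [e]
    exact hha.symm.mul_right (mul_inv_eq_iff_eq_mul.1 hgh).symm
  obtain ⟨hh4, hhb, -⟩ := (commute_triple_iff hD.1 (hL.sub h₄) (hL.sub hb₃L) (hL.sub hb₄) (hK.sub hh) (Ne.symm hb34)
    hb44.symm (Ne.symm hb43) (hL.comm _ h₄ _ hb₃L) (hL.comm _ h₄ _ hb₄) (hL.comm _ hb₃L _ hb₄)).1 hg4
  have hhL : h ∈ L := hL.two h (hK.sub hh) a₄ h₄ b₃ hb₃L (Ne.symm hb34) hh4 hhb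
  exact hrK ((hL.eq_of_commute hz hzL hhL hr (hK.comm z hzK h hh) hzr) ▸ hh)

theorem Quad.two_or_four [Finite G] (Q : Quad D c) : c = 2 ∨ c = 4 := by
  have := Q.two_le
  have := Q.ne_three
  have := Q.le_four
  omega

/-- The five members of a line have product one. -/
theorem Quad.prod_five [Finite G] (Q : Quad D 4) {L : Set G} (hL : IsLine D 4 L) {p q u v r : G} (hp : p ∈ L)
    (hq : q ∈ L) (hu : u ∈ L) (hv : v ∈ L) (hr : r ∈ L) (hd : [p, q, u, v, r].Nodup) : p * q * u * v * r = 1 := by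
  classical
  have hD := Q.rich.cls
  have hsub : (([p, q, u, v, r].toFinset : Finset G) : Set G) = L := by
    refine Set.eq_of_subset_of_ncard_le (fun t ht => ?_) ?_ (Set.toFinite _)
    · simp only [List.coe_toFinset, Set.mem_ofPred_eq, List.mem_cons, List.not_mem_nil, or_false] at ht
      rcases ht with rfl | rfl | rfl | rfl | rfl <;> assumption
    · rw [Set.ncard_coe_finset, List.toFinset_card_of_nodup hd, hL.card]; rfl
  have hmem : ∀ t ∈ L, t ∈ [p, q, u, v, r] := fun t ht => by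
    rw [← hsub] at ht
    simpa only [List.coe_toFinset, Set.mem_ofPred_eq] using ht
  set P := [p, q, u, v, r].prod with hP
  suffices h : P ∈ Subgroup.center G by
    rw [Q.center, mem_bot] at h
    rw [← h, hP]
    simp only [List.prod_cons, List.prod_nil, mul_one, mul_assoc]
  rw [mem_center_iff]
  intro g
  suffices h : closure D ≤ centralizer ({P} : Set G) from
    mem_centralizer_singleton_iff.1 (h (hD.2.2 ▸ mem_top g))
  rw [closure_le]
  intro z hz
  refine mem_centralizer_singleton_iff.2 ?_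
  by_cases hzL : z ∈ L
  · refine (Commute.list_prod_right [p, q, u, v, r] z fun t ht => ?_).eq
    have : t ∈ L := by rw [← hsub]; simpa only [List.coe_toFinset, Set.mem_ofPred_eq] using ht
    exact hL.comm z hzL t this
  obtain ⟨s, ⟨hs, hzs⟩, huniq⟩ := Q.existsUnique hL hz hzL
  -- put the neighbour first
  obtain ⟨l, hl⟩ : ∃ l, List.Perm [p, q, u, v, r] (s :: l) := ⟨_, List.perm_cons_erase (hmem s hs)⟩
  have hl4 : l.length = 4 := by have := hl.length_eq; simpa using this.symm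
  match l, hl4 with
  | [a, b, e, f], _ =>
    have hnd : [s, a, b, e, f].Nodup := hl.nodup_iff.1 hd
    simp only [List.nodup_cons, List.mem_cons, List.not_mem_nil, or_false, not_or] at hnd
    obtain ⟨⟨hsa, hsb, hse, hsf⟩, ⟨hab, hae, haf⟩, ⟨hbe, hbf⟩, hef, -, -⟩ := hnd
    have hL' : ∀ t ∈ [s, a, b, e, f], t ∈ L := fun t ht => by
      have h' := hl.mem_iff.2 ht
      rw [← hsub]; simpa only [List.coe_toFinset, Set.mem_ofPred_eq] using h'
    have hnz : ∀ t ∈ [s, a, b, e, f], t ≠ s → ¬ Commute z t := fun t ht hne h => hne (huniq t ⟨hL' t ht, h⟩)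
    obtain ⟨w, hw, hwa, hwb, hwe, hzw, -, hcomm⟩ := hL.fourth hD (hL' a (by simp)) (hL' b (by simp))
      (hL' e (by simp)) hab hae hbe hz (hnz a (by simp) (Ne.symm hsa)) (hnz b (by simp) (Ne.symm hsb))
      (hnz e (by simp) (Ne.symm hse))
    have hwf : w = f := by
      have h' := hl.mem_iff.1 (hmem w hw)
      simp only [List.mem_cons, List.not_mem_nil, or_false, hwa, hwb, hwe, false_or] at h'
      exact h'.resolve_left fun h => hzw (h ▸ hzs)
    subst hwf
    have e' : P = s * (a * b * e * w) := by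
      rw [hP, hl.prod_eq' ?_]
      · simp only [List.prod_cons, List.prod_nil, mul_one, mul_assoc]
      · exact List.Pairwise.imp_of_mem (R := fun _ _ => True) (fun ha hb _ => hL.comm _
          (by rw [← hsub]; simpa only [List.coe_toFinset, Set.mem_ofPred_eq] using ha) _
          (by rw [← hsub]; simpa only [List.coe_toFinset, Set.mem_ofPred_eq] using hb)) (List.pairwise_iff_forall_sublist.2 fun _ => trivial)
    rw [e']
    exact (hzs.mul_right hcomm.symm).eq

end Cfsg.Lib.ThreeTr.SolvablePerp
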