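import Cfsg.Agent.ThreeTransposition.CoreThree.Main

/-!
A primitive class of 3-transpositions in which the neighbours of a member generate a solvable group with central
odd core: two commuting neighbours of `x` have the same commuting partners among the neighbours of `x`. So the
cliques with three or more members lie in lines of one size, any two of which meet at most once.
-/

set_option linter.unusedSectionVars false
set_option linter.style.haveILetI false

namespace Cfsg.Lib.ThreeTr.SolvablePerp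

open Cfsg Subgroup Cfsg.Lib.ThreeTr

universe u

variable {G : Type u} [Group G] {D : Set G}

/-- In a solvable group a twin-free class is commuting or every member has a mate. -/
theorem commute_all_or_mate {H : Type u} [Group H] [Finite H] {E : Set H} (hE : IsThreeTranspositionClass E)
    (hs : Group.IsSolvable H) (hfree : ∀ a ∈ E, ∀ b ∈ E, VRel E a b → a = b) :
    (∀ a ∈ E, ∀ b ∈ E, Commute a b) ∨
      (¬ pCore 3 H ≤ center H ∧ ∀ u ∈ E, ∃ w ∈ E, w ≠ u ∧ WRel E u w) := by
  haveI := hs
  haveI := (Cfsg.Lib.Components.pCore_normal_and_isPGroup (G := H) 2).1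
  haveI := (Cfsg.Lib.Components.pCore_normal_and_isPGroup (G := H) 3).1
  have h2 : pCore 2 H ≤ center H := by
    by_contra h
    obtain ⟨d, hd, -⟩ := hE.2.1
    obtain ⟨g, hg, hne⟩ := exists_moved hE h hd
    exact hne (hfree _ (conj_mem hE g hd) d hd (vRel_of_mem_pCore hE hd (conj_mem hE g hd) (moved_diff_mem hg)))
  by_cases h3 : pCore 3 H ≤ center H
  · left
    have hF := fitting_le_center (pCore_le_center_of hE h2 h3)
    intro a _ b _
    have ha : a ∈ fittingSubgroup H :=
      Cfsg.Lib.Coprime.centralizer_fitting_le (mem_centralizer_iff.2 fun f hf => (mem_center_iff.1 (hF hf) a).symm)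
    exact (mem_center_iff.1 (hF ha) b).symm
  · refine Or.inr ⟨h3, fun u hu => ?_⟩
    obtain ⟨g, hg, hne⟩ := exists_moved hE h3 hu
    exact ⟨_, conj_mem hE g hu, hne, wRel_of_mem_pCore hE hu (conj_mem hE g hu) (moved_diff_mem hg)⟩

/-- A member does not commute with its conjugate by a noncommuting member. -/
theorem not_commute_braid (hE : IsThreeTranspositionSet D) {u v : G} (hu : u ∈ D) (hv : v ∈ D)
    (h : ¬ Commute u v) : ¬ Commute (u * v * u⁻¹) v := by
  intro hc
  apply h
  have hu2 := sq_eq_one hE hu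
  have hv2 := sq_eq_one hE hv
  have e : v * (u * v * u⁻¹) * v⁻¹ = u := by
    rw [inv_eq hE hu, inv_eq hE hv, braid hE hu hv h]
    exact invol_conj_conj hv2 u
  rw [← e]
  have h' : Commute (v * (u * v * u⁻¹) * v⁻¹) (v * v * v⁻¹) := (conj_commute_iff v _ _).2 hc
  rwa [mul_inv_cancel_right] at h'

/-- The members which fix all classes of equal commuting partners. -/
def classFix {E : Set G} (hE : IsThreeTranspositionClass E) : Subgroup G where
  carrier := {g | ∀ u ∈ E, VRel E (g * u * g⁻¹) u}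
  one_mem' u hu := by simpa using (vRel_isClassRel hE).refl u hu
  mul_mem' {a b} ha hb u hu := by
    rw [show a * b * u * (a * b)⁻¹ = a * (b * u * b⁻¹) * a⁻¹ by group]
    exact (vRel_isClassRel hE).trans (ha _ (conj_mem hE b hu)) (hb u hu)
  inv_mem' {a} ha u hu := by
    have h := ha _ (conj_mem hE a⁻¹ hu)
    rw [show a * (a⁻¹ * u * a⁻¹⁻¹) * a⁻¹ = u by group] at h
    exact (vRel_isClassRel hE).symm h

theorem classFix_normal {E : Set G} (hE : IsThreeTranspositionClass E) : (classFix hE).Normal := by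
  refine ⟨fun g hg h u hu => ?_⟩
  have h1 := (vRel_isClassRel hE).equiv h (conj_mem hE g (conj_mem hE h⁻¹ hu)) (conj_mem hE h⁻¹ hu)
    (hg _ (conj_mem hE h⁻¹ hu))
  simpa only [mul_inv_rev, inv_inv, ← mul_assoc, mul_inv_cancel, one_mul, mul_inv_cancel_right] using h1

/-- In a solvable group every member of a noncommuting class has a mate for the commuting members outside its
class of equal partners. -/
theorem exists_mate {H : Type u} [Group H] [Finite H] {E : Set H} (hE : IsThreeTranspositionClass E)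
    (hs : Group.IsSolvable H) (hnc : ∃ a ∈ E, ∃ b ∈ E, ¬ Commute a b) {u : H} (hu : u ∈ E) :
    ∃ w ∈ E, ¬ Commute u w ∧ ∀ y ∈ E, Commute u y → ¬ VRel E y u → Commute w y := by
  have hR := vRel_isClassRel hE
  haveI := classFix_normal hE
  set N := classFix hE with hN
  set f := QuotientGroup.mk' N with hf
  have hfs : Function.Surjective f := QuotientGroup.mk'_surjective N
  haveI : Group.IsSolvable (H ⧸ N) := by haveI := hs; exact Group.isSolvable_of_surjective hfs
  -- equal images
  have heq : ∀ a ∈ E, ∀ b ∈ E, f a = f b ↔ VRel E a b := by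
    intro a ha b hb
    rw [hf, QuotientGroup.mk'_apply, QuotientGroup.mk'_apply, QuotientGroup.eq, inv_eq hE.1 ha]
    constructor
    · intro hab
      have hcab : Commute a b := by
        by_contra hc
        have h := hab b hb
        rw [show a * b * b * (a * b)⁻¹ = a * b * a⁻¹ by group] at h
        exact not_commute_braid hE.1 ha hb hc (h.commute hb)
      have hba : b * a ∈ N := hcab.eq ▸ hab
      have key : ∀ {p q e : H}, p ∈ E → q ∈ E → e ∈ E → q * p ∈ N → Commute p e → Commute q e := by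
        intro p q e _ hq he hm hc
        by_contra hne
        have h := hm e he
        rw [show q * p * e * (q * p)⁻¹ = q * (p * e * p⁻¹) * q⁻¹ by group, hc.eq, mul_inv_cancel_right] at h
        exact not_commute_braid hE.1 hq he hne (h.commute he)
      exact fun e he => ⟨key ha hb he hba, key hb ha he hab⟩
    · exact fun h e he => hR.fixes_conj hE ha hb he h
  have hrefl : ∀ a ∈ E, ∀ b ∈ E, Commute (f a) (f b) → Commute a b := by
    intro a ha b hb h
    by_contra hc
    have h1 : f (a * b * a⁻¹) = f b := by rw [map_mul, map_mul, h.eq, map_inv, mul_inv_cancel_right]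
    exact not_commute_braid hE.1 ha hb hc (((heq _ (conj_mem hE a hb) b hb).1 h1).commute hb)
  have hne1 : f u ≠ 1 := by
    intro h
    have huN : u ∈ N := (QuotientGroup.eq_one_iff u).1 h
    obtain ⟨a, ha, b, hb, hab⟩ := hnc
    obtain ⟨g, rfl⟩ := exists_conj hE ha hu
    have hnb : ¬ Commute (g * a * g⁻¹) (g * b * g⁻¹) := fun hc => hab ((conj_commute_iff g a b).1 hc)
    exact not_commute_braid hE.1 hu (conj_mem hE g hb) hnb ((huN _ (conj_mem hE g hb)).commute (conj_mem hE g hb))
  have hcls := map_class hE f hfs hu hne1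
  have hfree : ∀ a ∈ f '' E, ∀ b ∈ f '' E, VRel (f '' E) a b → a = b := by
    rintro _ ⟨a, ha, rfl⟩ _ ⟨b, hb, rfl⟩ h
    refine (heq a ha b hb).2 fun e he => ?_
    exact ⟨fun hc => hrefl b hb e he ((h _ ⟨e, he, rfl⟩).1 (hc.map f)),
      fun hc => hrefl a ha e he ((h _ ⟨e, he, rfl⟩).2 (hc.map f))⟩
  rcases commute_all_or_mate hcls inferInstance hfree with hall | ⟨-, hm⟩
  · obtain ⟨a, ha, b, hb, hab⟩ := hnc
    exact absurd (hrefl a ha b hb (hall _ ⟨a, ha, rfl⟩ _ ⟨b, hb, rfl⟩)) hab
  obtain ⟨_, ⟨w, hw, rfl⟩, hwne, hW⟩ := hm _ ⟨u, hu, rfl⟩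
  refine ⟨w, hw, fun hc => hW.not_commute ⟨w, hw, rfl⟩ hwne.symm (hc.map f), fun y hy hc hny => ?_⟩
  exact hrefl w hw y hy ((hW _ ⟨y, hy, rfl⟩).1 ⟨fun h => hny ((heq y hy u hu).1 h), hc.map f⟩).2

/-- The members related to `a` among the neighbours of `x`. -/
def cls (D : Set G) (x a : G) : Set G := {b | b ∈ perp D x ∧ VRel (perp D x) a b}

theorem self_mem_cls {x a : G} (ha : a ∈ perp D x) : a ∈ cls D x a := ⟨ha, fun _ _ => Iff.rfl⟩

theorem perp_symm {x y : G} (hx : x ∈ D) (h : y ∈ perp D x) : x ∈ perp D y := ⟨hx, h.2.1.symm, h.2.2.symm⟩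

theorem exists_conj_edge [Finite G] (hR : Rich D) {x a y b : G} (hx : x ∈ D) (ha : a ∈ perp D x) (hy : y ∈ D)
    (hb : b ∈ perp D y) : ∃ g : G, g * x * g⁻¹ = y ∧ g * a * g⁻¹ = b := by
  obtain ⟨g, rfl⟩ := exists_conj hR.cls hx hy
  obtain ⟨h, hh, hhb⟩ := hR.perp_transitive hy ((CoreThree.mem_perp_conj hR.cls g).2 ha) hb
  refine ⟨h * g, ?_, ?_⟩
  · rw [show h * g * x * (h * g)⁻¹ = h * (g * x * g⁻¹) * h⁻¹ by group, CoreThree.conj_fix (closure_perp_commute hh)]
  · rw [show h * g * a * (h * g)⁻¹ = h * (g * a * g⁻¹) * h⁻¹ by group, hhb]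

theorem ncard_common_eq [Finite G] (hR : Rich D) {x a y b : G} (hx : x ∈ D) (ha : a ∈ perp D x) (hy : y ∈ D)
    (hb : b ∈ perp D y) : (perp D y ∩ perp D b).ncard = (perp D x ∩ perp D a).ncard := by
  obtain ⟨g, rfl, rfl⟩ := exists_conj_edge hR hx ha hy hb
  rw [← conj_image_perp hR.cls g x, ← conj_image_perp hR.cls g a, ← Set.image_inter (conj_image_injective g),
    Set.ncard_image_of_injective _ (conj_image_injective g)]

/-- Two equivalent neighbours `a`, `b` of `x` make `x` and `b` equivalent neighbours of `a`. -/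
theorem cls_symm [Finite G] (hR : Rich D) {x a b : G} (hx : x ∈ D) (ha : a ∈ perp D x) (hb : b ∈ cls D x a)
    (hne : b ≠ a) : b ∈ cls D a x := by
  obtain ⟨hbx, hV⟩ := hb
  have hab : Commute a b := (hV b hbx).2 (Commute.refl b)
  have hba : b ∈ perp D a := ⟨hbx.1, hne, hab⟩
  set P := perp D x ∩ perp D a with hP
  have hsub : insert x (P \ {b}) ⊆ perp D a ∩ perp D b := by
    rintro e (rfl | ⟨⟨hex, hea⟩, heb⟩)
    · exact ⟨perp_symm hx ha, perp_symm hx hbx⟩
    · exact ⟨hea, ⟨hex.1, heb, (hV e hex).1 hea.2.2⟩⟩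
  have heq : insert x (P \ {b}) = perp D a ∩ perp D b := by
    refine Set.eq_of_subset_of_ncard_le hsub ?_ (Set.toFinite _)
    have hbP : b ∈ P := ⟨hbx, hba⟩
    have hpos : 0 < P.ncard := (Set.ncard_pos (Set.toFinite P)).2 ⟨b, hbP⟩
    rw [Set.ncard_insert_of_notMem (fun h => h.1.1.2.1 rfl) (Set.toFinite _), Set.ncard_sdiff_singleton_of_mem hbP,
      ncard_common_eq hR hx ha ha.1 hba, ← hP]
    omega
  refine ⟨hba, fun e he => ?_⟩
  by_cases hex : e = x
  · subst hex; exact iff_of_true (Commute.refl _) hbx.2.2.symm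
  by_cases heb : e = b
  · subst heb; exact iff_of_true hbx.2.2 (Commute.refl _)
  constructor
  · exact fun h => (hV e ⟨he.1, hex, h⟩).1 he.2.2
  · intro h
    have hm : e ∈ perp D a ∩ perp D b := ⟨he, he.1, heb, h⟩
    rw [← heq] at hm
    rcases hm with rfl | ⟨⟨h', -⟩, -⟩
    exacts [Commute.refl _, h'.2.2]

theorem perpIn_vRel {x : G} {a b : closure (perp D x)} :
    VRel (CoreThree.perpIn D x) a b ↔ VRel (perp D x) (a : G) b := by
  constructor
  · intro h e he
    have := h ⟨e, subset_closure he⟩ he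
    simpa [Commute, SemiconjBy, Subtype.ext_iff] using this
  · intro h e he
    have := h e he
    simpa [Commute, SemiconjBy, Subtype.ext_iff] using this

/-- Some neighbour of `x` has a twin. -/
theorem exists_twin [Finite G] (hR : Rich D) {x : G} (hx : x ∈ D)
    (hs : Group.IsSolvable (closure (perp D x)))
    (hO : oddCore (closure (perp D x)) ≤ center (closure (perp D x))) :
    ∃ a ∈ perp D x, ∃ b ∈ cls D x a, b ≠ a := by
  by_contra hcon
  push Not at hcon
  have hcls := CoreThree.perp_class hR hx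
  have h3 : pCore 3 (closure (perp D x)) ≤ center (closure (perp D x)) := by
    refine le_trans ?_ hO
    haveI := (Cfsg.Lib.Components.pCore_normal_and_isPGroup (G := closure (perp D x)) 3).1
    haveI : Fact (Nat.Prime 3) := ⟨Nat.prime_three⟩
    refine Cfsg.Lib.Components.le_pPrimeCore (N := pCore 3 (closure (perp D x))) ?_
    obtain ⟨n, hn⟩ := (Cfsg.Lib.Components.isPGroup_pCore (G := closure (perp D x)) 3).exists_card_eq
    rw [hn]
    exact Nat.Coprime.pow_left n (by norm_num)
  have hfree : ∀ a ∈ CoreThree.perpIn D x, ∀ b ∈ CoreThree.perpIn D x, VRel (CoreThree.perpIn D x) a b → a = b :=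
    fun a ha b hb h => (Subtype.ext (hcon _ ha _ ⟨hb, perpIn_vRel.1 h⟩)).symm
  rcases commute_all_or_mate hcls hs hfree with hall | ⟨h, -⟩
  swap
  · exact h h3
  obtain ⟨a, ha⟩ := hR.exists_perp hx
  have hall' : ∀ p ∈ perp D x, ∀ q ∈ perp D x, Commute p q := fun p hp q hq =>
    (hall ⟨p, subset_closure hp⟩ hp ⟨q, subset_closure hq⟩ hq).map (closure (perp D x)).subtype
  have hone : perp D x = {a} := Set.eq_singleton_iff_unique_mem.2 ⟨ha, fun b hb => hcon a ha b
    ⟨hb, fun e he => iff_of_true (hall' a ha e he) (hall' b hb e he)⟩⟩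
  have hxa := perp_symm hx ha
  have htwo : perp D a = {x} := by
    obtain ⟨y, hy⟩ := Set.ncard_eq_one.1 (by rw [ncard_perp_eq hR.cls ha.1 hx, hone, Set.ncard_singleton] :
      (perp D a).ncard = 1)
    rw [hy] at hxa
    rw [hy, Set.mem_singleton_iff.1 hxa]
  refine ha.2.1 (eq_of_vRel_of_primitive hR.prim hR.cls hx ha.1 fun e he => ?_).symm
  by_cases hex : e = x
  · subst hex; exact iff_of_true (Commute.refl _) ha.2.2.symm
  by_cases hea : e = a
  · subst hea; exact iff_of_true ha.2.2 (Commute.refl _)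
  exact iff_of_false (fun h => hea (Set.mem_singleton_iff.1 (hone ▸ (show e ∈ perp D x from ⟨he, hex, h⟩))))
    fun h => hex (Set.mem_singleton_iff.1 (htwo ▸ (show e ∈ perp D a from ⟨he, hea, h⟩)))

/-- Commuting neighbours of `x` are equivalent. -/
theorem width [Finite G] (hR : Rich D) {x : G} (hx : x ∈ D) (hs : Group.IsSolvable (closure (perp D x)))
    (hO : oddCore (closure (perp D x)) ≤ center (closure (perp D x))) {a b : G} (ha : a ∈ perp D x)
    (hb : b ∈ perp D x) (hc : Commute a b) : VRel (perp D x) a b := by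
  by_contra hnV
  have hbne : b ≠ a := fun h => hnV (h ▸ fun _ _ => Iff.rfl)
  obtain ⟨a₀, ha₀, b₀, hb₀, hne₀⟩ := exists_twin hR hx hs hO
  -- a twin of `b` at `a`
  have hba : b ∈ perp D a := ⟨hb.1, hbne, hc⟩
  obtain ⟨g, hgx, hga⟩ := exists_conj_edge hR hx ha₀ ha.1 hba
  set d := g * b₀ * g⁻¹ with hd
  have hdcls : d ∈ cls D a b := by
    refine ⟨hgx ▸ (CoreThree.mem_perp_conj hR.cls g).2 hb₀.1, fun e he => ?_⟩
    rw [← hgx, ← conj_image_perp hR.cls g x] at he
    obtain ⟨z, hz, rfl⟩ := he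
    rw [← hga, hd, conj_commute_iff, conj_commute_iff]
    exact hb₀.2 z hz
  have hdb : d ≠ b := fun h => hne₀ (by rw [← hga] at h; exact mul_left_cancel (mul_right_cancel h))
  have hxa : x ∈ perp D a := perp_symm hx ha
  have hnab : b ∉ cls D a x := fun h => hnV (cls_symm hR ha.1 hxa h hb.2.1).2
  have hdx : d ≠ x := by
    intro h
    refine hnab ⟨hba, fun e he => ?_⟩
    rw [← h]
    exact (hdcls.2 e he).symm
  have hdperp : d ∈ perp D x := ⟨hdcls.1.1, hdx, ((hdcls.2 x hxa).1 hb.2.2.symm).symm⟩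
  have hnd : ¬ VRel (perp D x) a d := fun h => hnab ⟨hba, fun e he =>
    ((cls_symm hR hx ha ⟨hdperp, h⟩ hdcls.1.2.1).2 e he).trans (hdcls.2 e he).symm⟩
  -- the mate
  set E := CoreThree.perpIn D x with hE
  have hnc : ∃ p ∈ E, ∃ q ∈ E, ¬ Commute p q := by
    by_contra hall
    push Not at hall
    have hall' : ∀ p ∈ perp D x, ∀ q ∈ perp D x, Commute p q := fun p hp q hq =>
      (hall ⟨p, subset_closure hp⟩ hp ⟨q, subset_closure hq⟩ hq).map (closure (perp D x)).subtype
    exact hnV fun e he => iff_of_true (hall' a ha e he) (hall' b hb e he)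
  obtain ⟨w, hw, hwa, hwy⟩ := exists_mate (CoreThree.perp_class hR hx) hs hnc (u := ⟨a, subset_closure ha⟩) ha
  have hmate : ∀ y ∈ perp D x, Commute a y → ¬ VRel (perp D x) a y → Commute (w : G) y := fun y hy hcy hny =>
    (hwy ⟨y, subset_closure hy⟩ hy (Subtype.ext hcy) fun h => hny fun e he => (perpIn_vRel.1 h e he).symm).map
      (closure (perp D x)).subtype
  have hnwa : ¬ Commute (w : G) a := fun h => hwa (Subtype.ext h.symm)
  have hwb := hmate b hb hc hnV
  have hwd := hmate d hdperp hdcls.1.2.2 hnd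
  have hwpb : (w : G) ∈ perp D b := ⟨hw.1, fun h => hnwa (h ▸ hc.symm), hwb.symm⟩
  have hsym := cls_symm hR ha.1 hba hdcls hdb
  exact hnwa ((hsym.2 _ hwpb).2 hwd.symm).symm

end Cfsg.Lib.ThreeTr.SolvablePerp
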